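import Cfsg.Agent.Lib.Phan.Emb
import Cfsg.Agent.Lib.Lie.BoundedPres.SU.Six
import Cfsg.Agent.Lib.SU.SemisimpleCentral

/-!
# Permutation and diagonal matrices in unitary groups over the field with four elements
-/

set_option autoImplicit false
set_option linter.all false

namespace CfsgLib.Phan.Two

open Matrix Equiv CfsgLib.SU CfsgLib.Lie.BoundedPres.SUBase CfsgLib.Lie.BoundedPres.SUGraph

universe u

variable {F : Type u} [Field F] [Fintype F] {m n : ℕ} {C : UCtx F 2}

theorem fixed (C : UCtx F 2) : ∀ s : F, C.bar s = s → s = 0 ∨ s = 1 := fun s h => by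
  rw [C.bar_eq] at h
  rcases mul_eq_zero.1 (show s * (s - 1) = 0 by linear_combination h) with h | h
  exacts [Or.inl h, Or.inr (sub_eq_zero.1 h)]

theorem two_zero (C : UCtx F 2) : (2 : F) = 0 := SixClosed.two_eq (fixed C)

theorem unit_norm (C : UCtx F 2) (u : Fˣ) : (u : F) * C.bar u = 1 := SixClosed.norm_one (fixed C) u.ne_zero

theorem unit_bar (C : UCtx F 2) (u : Fˣ) : C.bar (u : F) = ((u⁻¹ : Fˣ) : F) := by
  rw [SixClosed.bar_eq (fixed C) u.ne_zero, Units.val_inv_eq_inv_val]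

theorem unit_cube (C : UCtx F 2) (u : Fˣ) : u ^ 3 = 1 := Units.ext (by
  rw [Units.val_pow_eq_pow_val, Units.val_one, pow_three, ← mul_assoc]
  exact SixClosed.cube (fixed C) u.ne_zero)

theorem exists_unit_ne_one (C : UCtx F 2) : ∃ u : Fˣ, u ≠ 1 := by
  obtain ⟨y, hy⟩ := C.exists_not_fixed
  refine ⟨Units.mk0 y fun e => hy (by rw [e, map_zero]), fun e => hy ?_⟩
  have : y = 1 := congrArg Units.val e
  rw [this, map_one]

theorem sv_smul_eq {i j : Fin n} {a b : F} (ha : a ≠ 0) (h : a • (sv i : Fin n → F) = b • sv j) :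
    i = j ∧ a = b := by
  have e := congrFun h i
  by_cases hij : i = j
  · exact ⟨hij, by simpa [sv, hij] using e⟩
  · simp [sv, hij, ha] at e

theorem sv_ne_zero (i : Fin n) : (sv i : Fin n → F) ≠ 0 := fun h => by
  simpa [sv] using congrFun h i

theorem ext_sv {X Y : ↥(Cfsg.SU n F 2)} (h : ∀ j, X.1.1 *ᵥ sv j = Y.1.1 *ᵥ sv j) : X = Y :=
  su_ext fun x => by
    rw [sum_sv x, Matrix.mulVec_sum, Matrix.mulVec_sum]
    exact Finset.sum_congr rfl fun j _ => by rw [Matrix.mulVec_smul, Matrix.mulVec_smul, h j]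

theorem det_ps (C : UCtx F 2) (π : Perm (Fin n)) : (π.permMatrix F).det = 1 := by
  rw [Matrix.det_permutation]
  rcases Int.units_eq_one_or (Perm.sign π) with h | h <;> rw [h]
  · simp
  · simp only [Units.val_neg, Units.val_one, Int.cast_neg, Int.cast_one]
    linear_combination -(two_zero C)

/-- a permutation of the coordinates -/
def ps (C : UCtx F 2) : Perm (Fin n) →* ↥(Cfsg.SU n F 2) where
  toFun σ := C.mkSU ((σ⁻¹).permMatrix F) (det_ps C _) fun u v => by
    rw [Matrix.permMatrix_mulVec, Matrix.permMatrix_mulVec]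
    exact Equiv.sum_comp σ⁻¹ (fun i => u i * C.bar (v i))
  map_one' := su_ext fun x => by
    rw [su_one_mulVec]
    show (((1 : Perm (Fin n))⁻¹).permMatrix F) *ᵥ x = x
    rw [Matrix.permMatrix_mulVec]
    rfl
  map_mul' σ τ := su_ext fun x => by
    rw [suMat_mulVec_mul]
    show ((σ * τ)⁻¹.permMatrix F) *ᵥ x = (σ⁻¹.permMatrix F) *ᵥ ((τ⁻¹.permMatrix F) *ᵥ x)
    rw [Matrix.permMatrix_mulVec, Matrix.permMatrix_mulVec, Matrix.permMatrix_mulVec]
    funext i
    simp [Perm.inv_def]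

theorem ps_sv (σ : Perm (Fin n)) (i : Fin n) : (ps C σ).1.1 *ᵥ sv i = sv (σ i) := by
  show (σ⁻¹.permMatrix F) *ᵥ sv i = sv (σ i)
  rw [Matrix.permMatrix_mulVec]
  funext j
  simp only [Function.comp_apply, sv, Pi.single_apply, Perm.inv_def, Equiv.symm_apply_eq]

theorem ps_injective : Function.Injective (ps C (n := n)) := fun σ τ h => Perm.ext fun i => by
  have e : (sv (σ i) : Fin n → F) = sv (τ i) := by rw [← ps_sv (C := C), ← ps_sv (C := C), h]
  exact (sv_smul_eq (a := (1 : F)) (b := 1) one_ne_zero (by rw [e])).1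

theorem pA_eq (σ : alternatingGroup (Fin n)) : pA C σ = ps C σ.1 :=
  ext_sv fun j => by rw [pA_sv, ps_sv]

theorem emb_ps {f : Fin m → Fin n} (hf : Function.Injective f) (σ : Perm (Fin m)) :
    emb C f hf (ps C σ) = ps C (σ.viaEmbedding ⟨f, hf⟩) := by
  refine ext_sv fun j => ?_
  rw [ps_sv]
  by_cases hj : ∃ i, f i = j
  · obtain ⟨i, rfl⟩ := hj
    rw [emb_sv, ps_sv, inc_mulVec_sv]
    exact congrArg sv (Perm.viaEmbedding_apply σ ⟨f, hf⟩ i).symm
  · push Not at hj
    rw [emb_fix _ hj, Perm.viaEmbedding_apply_of_notMem σ ⟨f, hf⟩ j (fun ⟨i, hi⟩ => hj i hi)]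

/-- the diagonal entries of determinant one -/
def Diag (F : Type u) [Field F] (n : ℕ) : Subgroup (Fin n → Fˣ) where
  carrier := {v | ∏ i, v i = 1}
  one_mem' := by simp
  mul_mem' := fun {a b} ha hb => by
    simp only [Set.mem_ofPred_eq, Pi.mul_apply, Finset.prod_mul_distrib] at *
    rw [ha, hb, one_mul]
  inv_mem' := fun {a} ha => by
    simp only [Set.mem_ofPred_eq, Pi.inv_apply, Finset.prod_inv_distrib] at *
    rw [ha, inv_one]

/-- a diagonal matrix -/
def dg (C : UCtx F 2) : ↥(Diag F n) →* ↥(Cfsg.SU n F 2) where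
  toFun v := C.mkSU (Matrix.diagonal fun i => ((v.1 i : Fˣ) : F)) (by
      rw [Matrix.det_diagonal, ← Units.coe_prod, show ∏ i, v.1 i = 1 from v.2, Units.val_one])
    fun x y => by
      simp only [UCtx.form, Matrix.mulVec_diagonal]
      exact Finset.sum_congr rfl fun i _ => by
        rw [map_mul]; linear_combination (x i * C.bar (y i)) * unit_norm C (v.1 i)
  map_one' := su_ext fun x => by
    rw [su_one_mulVec]
    show Matrix.diagonal _ *ᵥ x = x
    funext i
    simp [Matrix.mulVec_diagonal]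
  map_mul' v w := su_ext fun x => by
    rw [suMat_mulVec_mul]
    show Matrix.diagonal _ *ᵥ x = Matrix.diagonal _ *ᵥ (Matrix.diagonal _ *ᵥ x)
    funext i
    simp [Matrix.mulVec_diagonal, mul_assoc]

theorem dg_sv (v : ↥(Diag F n)) (i : Fin n) : (dg C v).1.1 *ᵥ sv i = ((v.1 i : Fˣ) : F) • sv i := by
  show Matrix.diagonal _ *ᵥ sv i = _
  funext j
  by_cases h : j = i
  · subst h; simp [Matrix.mulVec_diagonal, sv]
  · simp [Matrix.mulVec_diagonal, sv, h]

theorem dg_injective : Function.Injective (dg C (n := n)) := fun v w h => Subtype.ext (funext fun i => Units.ext (by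
  have e := dg_sv (C := C) v i
  rw [h, dg_sv] at e
  exact ((sv_smul_eq (w.1 i).ne_zero e).2).symm))

/-- diagonal matrices -/
abbrev Tor (C : UCtx F 2) (n : ℕ) : Subgroup ↥(Cfsg.SU n F 2) := (dg C (n := n)).range

theorem exists_scalar {X : ↥(Cfsg.SU n F 2)} {i j : Fin n} {a : F} (h : X.1.1 *ᵥ sv i = a • sv j) :
    ∃ u : Fˣ, (u : F) = a := by
  refine ⟨Units.mk0 a fun e => sv_ne_zero (F := F) i ?_, rfl⟩
  rw [e, zero_smul] at h
  rw [← su_inv_mulVec X (sv i), h, Matrix.mulVec_zero]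

theorem mem_tor {X : ↥(Cfsg.SU n F 2)} : X ∈ Tor C n ↔ ∀ i, ∃ a : F, X.1.1 *ᵥ sv i = a • sv i := by
  refine ⟨fun ⟨v, hv⟩ i => ⟨_, hv ▸ dg_sv v i⟩, fun h => ?_⟩
  choose a ha using h
  choose u hu using fun i => exists_scalar (ha i)
  have hM : X.1.1 = Matrix.diagonal fun i => ((u i : Fˣ) : F) := Matrix.ext fun k l => by
    have e := congrFun (ha l) k
    rw [sv, Matrix.mulVec_single_one, Matrix.col_apply] at e
    rw [e, Matrix.diagonal_apply, hu]
    by_cases hkl : k = l
    · subst hkl; simp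
    · simp [hkl]
  have hd : ∏ i, u i = 1 := Units.ext (by
    rw [Units.coe_prod, ← Matrix.det_diagonal, ← hM, X.1.2, Units.val_one])
  exact ⟨⟨u, hd⟩, ext_sv fun j => by rw [dg_sv, ha j, hu]⟩

theorem card_units (hF : Fintype.card F = 4) : Nat.card Fˣ = 3 := by
  classical
  rw [Nat.card_eq_fintype_card, Fintype.card_units, hF]

theorem card_tor (hF : Fintype.card F = 4) : Nat.card ↥(Tor C 4) = 27 := by
  rw [Nat.card_congr (MonoidHom.ofInjective (dg_injective (C := C) (n := 4))).toEquiv.symm]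
  let e : ↥(Diag F 4) ≃ (Fin 3 → Fˣ) :=
    { toFun := fun v => ![v.1 0, v.1 1, v.1 2]
      invFun := fun w => ⟨![w 0, w 1, w 2, (w 0 * w 1 * w 2)⁻¹], by
        show ∏ i, (![w 0, w 1, w 2, (w 0 * w 1 * w 2)⁻¹] : Fin 4 → Fˣ) i = 1
        simp [Fin.prod_univ_four]⟩
      left_inv := fun v => Subtype.ext (by
        have h : ∏ i, v.1 i = 1 := v.2
        rw [Fin.prod_univ_four] at h
        funext i
        fin_cases i <;> simp [inv_eq_of_mul_eq_one_right h, ← mul_assoc])
      right_inv := fun w => funext fun i => by fin_cases i <;> simp }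
  rw [Nat.card_congr e, Nat.card_fun, Nat.card_fin, card_units hF]
  rfl

theorem card_four (hF : Fintype.card F = 4) : Nat.card ↥(Cfsg.SU 4 F 2) = 25920 := by
  rw [CfsgLib.SU.SemisimpleCentral.card_su (Classical.choice (CfsgLib.Classical.uctx_exists (F := F) (q := 2)
    (by rw [hF]; norm_num))) (by rw [hF]; norm_num) (by norm_num)]
  decide

theorem card_three (hF : Fintype.card F = 4) : Nat.card ↥(Cfsg.SU 3 F 2) = 216 := by
  rw [CfsgLib.SU.SemisimpleCentral.card_su (Classical.choice (CfsgLib.Classical.uctx_exists (F := F) (q := 2)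
    (by rw [hF]; norm_num))) (by rw [hF]; norm_num) (by norm_num)]
  decide

end CfsgLib.Phan.Two
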