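import Cfsg.Agent.Lib.Phan.Two.Model
import Cfsg.Agent.Lib.Classical.PSUSimple

/-!
# Chains of pieces over the field with four elements: the windows
-/

set_option autoImplicit false
set_option linter.all false
set_option maxHeartbeats 1000000

namespace CfsgLib.Phan.Two

open Matrix Equiv CfsgLib.SU CfsgLib.Lie.BoundedPres.SUBase CfsgLib.Lie.BoundedPres.SUGraph

universe u

variable {F : Type u} [Field F] [Fintype F] {C : UCtx F 2} {G : Type*} [Group G] {n : ℕ}

/-- a weak system over the field with four elements, with chosen elements of order three and two -/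
structure Chain (C : UCtx F 2) (n : ℕ) (U : ℕ → Subgroup G) (t s : ℕ → G)
    (φ : ℕ → ↥(Cfsg.SU 3 F 2) →* G) : Prop where
  comm : ∀ i j, i + 2 ≤ j → j < n → ∀ x ∈ U i, ∀ y ∈ U j, x * y = y * x
  piece : ∀ j, j + 1 < n → Piece C (φ j) (U j) (U (j + 1))
  tmem : ∀ j, j < n → t j ∈ U j
  tcube : ∀ j, j < n → t j ^ 3 = 1
  tne : ∀ j, j < n → t j ≠ 1
  smem : ∀ j, j < n → s j ∈ U j
  ssq : ∀ j, j < n → s j * s j = 1
  sne : ∀ j, j < n → s j ≠ 1
  sinv : ∀ j, j < n → s j * t j * s j = (t j)⁻¹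
  window : ∀ i, i + 2 < n → ∃ g : ↥(Cfsg.SU 4 F 2) →* G, g.range = (φ i).range ⊔ (φ (i + 1)).range
  farUV : ∀ i j, i < n → j + 1 < n → (i + 2 ≤ j ∨ j + 3 ≤ i) → ∀ x ∈ U i, ∀ y ∈ (φ j).range, x * y = y * x
  farVV : ∀ i k, i + 3 ≤ k → k + 1 < n → ∀ x ∈ (φ i).range, ∀ y ∈ (φ k).range, x * y = y * x

theorem comm_inv {a b : G} (h : a * b = b * a) : a * b * a⁻¹ = b := by rw [h, mul_inv_cancel_right]

namespace Chain

variable {U : ℕ → Subgroup G} {t s : ℕ → G} {φ : ℕ → ↥(Cfsg.SU 3 F 2) →* G} (H : Chain C n U t s φ)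
  (hF : Fintype.card F = 4)
include H hF

theorem sinv' {j : ℕ} (hj : j < n) : (s j)⁻¹ = s j := inv_eq_of_mul_eq_one_right (H.ssq j hj)

/-- the pieces are faithful -/
theorem inj {j : ℕ} (hj : j + 1 < n) (hn : 3 ≤ n) : Function.Injective (φ j) := by
  classical
  have P := H.piece j hj
  refine (injective_iff_map_eq_one _).2 fun X hX => ?_
  by_contra hX1
  have hXc := P.ker_le hX
  obtain ⟨c, hc⟩ := scalar_of_central (C := C) le_rfl hXc
  obtain ⟨v, rfl⟩ : X ∈ Tor C 3 := mem_tor.2 fun i => ⟨c, by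
    rw [hc, Matrix.smul_mulVec, Matrix.one_mulVec]⟩
  have hv : ∀ i, v.1 i = v.1 0 := fun i => by
    have := central_fix hXc (swap 0 i) i
    rwa [swap_apply_right, eq_comm] at this
  set u := v.1 0 with hu
  have hu1 : u ≠ 1 := fun e => hX1 (by
    rw [show v = 1 from Subtype.ext (funext fun i => (hv i).trans e), map_one])
  have hz : d0 u = d1 u * v := Subtype.ext (funext fun i => by
    obtain ⟨a0, a1, a2⟩ := d0_val u
    obtain ⟨b0, b1, b2⟩ := d1_val u
    fin_cases i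
    · show (d0 u).1 0 = (d1 u).1 0 * v.1 0
      rw [a0, b0, one_mul]
    · show (d0 u).1 1 = (d1 u).1 1 * v.1 1
      rw [a1, b1, hv 1]
      exact inv_eq_of_mul_eq_one_right (by rw [← pow_three]; exact unit_cube C u)
    · show (d0 u).1 2 = (d1 u).1 2 * v.1 2
      rw [a2, b2, hv 2, inv_mul_cancel])
  have e : φ j (dg C (d0 u)) = φ j (dg C (d1 u)) := by
    rw [hz, map_mul (dg C), map_mul, MonoidHom.mem_ker.1 hX, mul_one]
  let d : ↥(Diag F 2) := pairD (show (0 : Fin 2) ≠ 1 by decide) u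
  have hd : d.1 0 = u := pairD_left _ u
  set τ := φ j (dg C (d0 u)) with hτ
  have hτl : τ ∈ U j := by
    rw [← P.left]; exact ⟨_, ⟨dg C d, rfl⟩, by rw [e0_diag, hd]⟩
  have hτr : τ ∈ U (j + 1) := by
    rw [← P.right]; exact ⟨_, ⟨dg C d, rfl⟩, by rw [e1_diag, hd, e]⟩
  have hτ1 : τ ≠ 1 := fun h => hu1 (by
    have : dg C d = 1 := P.inj_left (by rw [MonoidHom.comp_apply, e0_diag, hd, map_one]; exact h)
    rw [← hd, dg_injective (this.trans (map_one _).symm)]; rfl)
  have hτ3 : τ ^ 3 = 1 := by rw [hτ, ← map_pow, ← map_pow, diag_cube C, map_one, map_one]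
  rcases Nat.lt_or_ge (j + 2) n with hr | hr
  · have Q := H.piece (j + 1) (by omega)
    obtain ⟨x, hx, hxe⟩ := Q.three_left hτr hτ3 hτ1
    obtain ⟨w, hw⟩ := Q.invol_right (H.smem (j + 2) hr) (H.ssq _ hr) (H.sne _ hr)
    have hc : s (j + 2) * τ * (s (j + 2))⁻¹ = τ := comm_inv ((H.comm j (j + 2) le_rfl hr τ hτl _ (H.smem _ hr)).symm)
    rw [← hw, ← hxe, ← map_inv, ← map_mul, ← map_mul, invol_conj _ (Equiv.swap_mul_self _ _)] at hc
    have hk : dg C (perD (swap 1 2) (d0 x) * (d0 x)⁻¹) ∈ Subgroup.center _ := Q.ker_le (by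
      rw [MonoidHom.mem_ker, map_mul (dg C), map_inv (dg C), map_mul, map_inv, hc, mul_inv_cancel])
    have := central_fix hk (swap 0 1) 0
    obtain ⟨a0, a1, a2⟩ := d0_val x
    simp [perD, a0, a1, a2, swap_apply_def] at this
    exact hx this
  · obtain ⟨i, rfl⟩ : ∃ i, j = i + 1 := ⟨j - 1, by omega⟩
    have Q := H.piece i (by omega)
    obtain ⟨x, hx, hxe⟩ := Q.three_right hτl hτ3 hτ1
    obtain ⟨w, hw⟩ := Q.invol_left (H.smem i (by omega)) (H.ssq _ (by omega)) (H.sne _ (by omega))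
    have hc : s i * τ * (s i)⁻¹ = τ := comm_inv (H.comm i (i + 1 + 1) le_rfl hj _ (H.smem i (by omega)) τ hτr)
    rw [← hw, ← hxe, ← map_inv, ← map_mul, ← map_mul, invol_conj _ (Equiv.swap_mul_self _ _)] at hc
    have hk : dg C (perD (swap 0 1) (d1 x) * (d1 x)⁻¹) ∈ Subgroup.center _ := Q.ker_le (by
      rw [MonoidHom.mem_ker, map_mul (dg C), map_inv (dg C), map_mul, map_inv, hc, mul_inv_cancel])
    have := central_fix hk (swap 1 2) 2
    obtain ⟨a0, a1, a2⟩ := d1_val x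
    simp [perD, a0, a1, a2, swap_apply_def] at this
    exact hx this

/-- the relations in one piece -/
theorem piece_rel {j : ℕ} (hj : j + 1 < n) :
    t j * t (j + 1) = t (j + 1) * t j ∧
    (∃ r, (r = t j ∨ r = (t j)⁻¹) ∧ s j * t (j + 1) * s j = r * t (j + 1)) ∧
    (∃ r, (r = t (j + 1) ∨ r = (t (j + 1))⁻¹) ∧ s (j + 1) * t j * s (j + 1) = r * t j) ∧
    (∀ d : ↥(Diag F 3), φ j (dg C d) ∈ Subgroup.zpowers (t j) ⊔ Subgroup.zpowers (t (j + 1))) ∧
    t j ∈ (φ j).range ∧ t (j + 1) ∈ (φ j).range ∧ s j ∈ (φ j).range ∧ s (j + 1) ∈ (φ j).range ∧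
    ∃ x y : Fˣ, x ≠ 1 ∧ y ≠ 1 ∧ φ j (dg C (d0 x)) = t j ∧ φ j (dg C (d1 y)) = t (j + 1) := by
  classical
  have P := H.piece j hj
  obtain ⟨x, hx, hxe⟩ := P.three_left (H.tmem j (by omega)) (H.tcube _ (by omega)) (H.tne _ (by omega))
  obtain ⟨y, hy, hye⟩ := P.three_right (H.tmem _ hj) (H.tcube _ hj) (H.tne _ hj)
  obtain ⟨w, hw⟩ := P.invol_left (H.smem j (by omega)) (H.ssq _ (by omega)) (H.sne _ (by omega))
  obtain ⟨z, hz⟩ := P.invol_right (H.smem _ hj) (H.ssq _ hj) (H.sne _ hj)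
  obtain ⟨a0, a1, a2⟩ := d0_val x
  obtain ⟨b0, b1, b2⟩ := d1_val y
  have conj0 : ∀ d, s j * φ j (dg C d) * s j = φ j (dg C (perD (swap 0 1) d)) := fun d => by
    nth_rw 2 [← sinv' H hF (show j < n by omega)]
    rw [← hw, ← map_inv, ← map_mul, ← map_mul, invol_conj _ (Equiv.swap_mul_self _ _)]
  have conj1 : ∀ d, s (j + 1) * φ j (dg C d) * s (j + 1) = φ j (dg C (perD (swap 1 2) d)) := fun d => by
    nth_rw 2 [← sinv' H hF hj]
    rw [← hz, ← map_inv, ← map_mul, ← map_mul, invol_conj _ (Equiv.swap_mul_self _ _)]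
  have e0' : perD (swap (0 : Fin 3) 1) (d1 y) = d0 y * d1 y := Subtype.ext (funext fun i => by
    obtain ⟨c0, c1, c2⟩ := d0_val y
    fin_cases i <;> simp [perD, swap_apply_def, c0, c1, c2, b0, b1, b2])
  have e1' : perD (swap (1 : Fin 3) 2) (d0 x) = d1 x * d0 x := Subtype.ext (funext fun i => by
    obtain ⟨c0, c1, c2⟩ := d1_val x
    fin_cases i <;> simp [perD, swap_apply_def, c0, c1, c2, a0, a1, a2])
  refine ⟨?_, ?_, ?_, fun d => ?_, hxe ▸ ⟨_, rfl⟩, hye ▸ ⟨_, rfl⟩, hw ▸ ⟨_, rfl⟩, hz ▸ ⟨_, rfl⟩,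
    x, y, hx, hy, hxe, hye⟩
  · rw [← hxe, ← hye, ← map_mul, ← map_mul, ← map_mul, ← map_mul, mul_comm]
  · refine ⟨φ j (dg C (d0 y)), ?_, by rw [← hye, conj0, e0', map_mul (dg C), map_mul]⟩
    rcases two_units hF C hx y with h | h | h
    · exact absurd h hy
    · exact Or.inl (by rw [h, hxe])
    · exact Or.inr (by rw [h, d0_inv, map_inv, map_inv, hxe])
  · refine ⟨φ j (dg C (d1 x)), ?_, by rw [← hxe, conj1, e1', map_mul (dg C), map_mul]⟩
    rcases two_units hF C hy x with h | h | h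
    · exact absurd h hx
    · exact Or.inl (by rw [h, hye])
    · exact Or.inr (by rw [h, d1_inv, map_inv, map_inv, hye])
  · obtain ⟨k, l, rfl⟩ := gen_diag hF hx hy d
    rw [map_mul (dg C), map_mul, map_pow, map_pow, map_pow, map_pow, hxe, hye]
    exact mul_mem (Subgroup.mem_sup_left (pow_mem (Subgroup.mem_zpowers _) _))
      (Subgroup.mem_sup_right (pow_mem (Subgroup.mem_zpowers _) _))

/-- the three elements of order three of a window -/
theorem torus {i : ℕ} (hi : i + 2 < n) :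
    (∀ x ∈ Subgroup.closure (Set.range ![t i, t (i + 1), t (i + 2)]),
      ∀ y ∈ Subgroup.closure (Set.range ![t i, t (i + 1), t (i + 2)]), x * y = y * x) ∧
    Nat.card (Subgroup.closure (Set.range ![t i, t (i + 1), t (i + 2)])) = 27 := by
  classical
  haveI : Fact (Nat.Prime 3) := ⟨Nat.prime_three⟩
  obtain ⟨c01, -, -, hgen, -, -, -, -, x, y, hx, hy, hxe, hye⟩ := piece_rel H hF (show i + 1 < n by omega)
  obtain ⟨c12, -, ⟨r, hr, er⟩, -, -, -, -, -, -⟩ := piece_rel H hF (show (i + 1) + 1 < n by omega)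
  obtain ⟨-, -, ⟨r', hr', er'⟩, -⟩ := piece_rel H hF (show i + 1 < n by omega)
  obtain ⟨-, ⟨r2, hr2, er2⟩, -⟩ := piece_rel H hF (show (i + 1) + 1 < n by omega)
  have c02 := H.comm i (i + 2) le_rfl hi _ (H.tmem i (by omega)) _ (H.tmem _ hi)
  have hinj := inj H hF (show i + 1 < n by omega) (by omega)
  let f : ↥(Diag F 3) →* G := (φ i).comp (dg C)
  have hf : Function.Injective f := hinj.comp dg_injective
  have hc : ∀ (d : ↥(Diag F 3)) (z : ↥(Subgroup.zpowers (t (i + 2)))),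
      Commute (f d) ((Subgroup.zpowers (t (i + 2))).subtype z) := fun d z => by
    obtain ⟨k, l, rfl⟩ := gen_diag hF hx hy d
    obtain ⟨m, hm⟩ := Subgroup.mem_zpowers_iff.1 z.2
    show Commute (φ i (dg C (d0 x ^ k * d1 y ^ l))) z.1
    rw [map_mul (dg C), map_mul, map_pow, map_pow, map_pow, map_pow, hxe, hye, ← hm]
    exact ((Commute.pow_left c02 k).mul_left (Commute.pow_left c12 l)).zpow_right m
  let h := MonoidHom.noncommCoprod f (Subgroup.zpowers (t (i + 2))).subtype hc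
  have hnot : t (i + 2) ∉ f.range := by
    rintro ⟨d, hd⟩
    obtain ⟨w, hw⟩ := (H.piece i (by omega)).invol_left (H.smem i (by omega)) (H.ssq _ (by omega)) (H.sne _ (by omega))
    obtain ⟨z, hz⟩ := (H.piece i (by omega)).invol_right (H.smem (i + 1) (by omega)) (H.ssq _ (by omega)) (H.sne _ (by omega))
    have hfix : perD (swap 0 1) d = d := by
      refine hf ?_
      show φ i (dg C (perD (swap 0 1) d)) = φ i (dg C d)
      rw [← invol_conj _ (Equiv.swap_mul_self _ _) d (d0 w), map_mul, map_mul, map_inv, hw]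
      rw [show φ i (dg C d) = t (i + 2) from hd]
      exact comm_inv (H.comm i (i + 2) le_rfl hi _ (H.smem i (by omega)) _ (H.tmem _ hi))
    have h01 : d.1 1 = d.1 0 := by
      have := congrArg (fun v : ↥(Diag F 3) => v.1 0) hfix
      simpa [perD] using this
    have h12 : d.1 2 = d.1 0 := by
      have h : ∏ i, d.1 i = 1 := d.2
      rw [Fin.prod_univ_three, h01] at h
      have := unit_cube C (d.1 0)
      rw [pow_three, ← mul_assoc] at this
      exact mul_left_cancel (h.trans this.symm)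
    have hs : s (i + 1) * t (i + 2) * s (i + 1) = t (i + 2) := by
      nth_rw 2 [← sinv' H hF (show i + 1 < n by omega)]
      rw [show t (i + 2) = φ i (dg C d) from hd.symm, ← hz, ← map_inv, ← map_mul, ← map_mul,
        invol_conj _ (Equiv.swap_mul_self _ _)]
      congr 2
      refine Subtype.ext (funext fun j => ?_)
      fin_cases j <;> simp [perD, swap_apply_def, h01, h12]
    rw [show i + 1 + 1 = i + 2 from rfl] at er2
    rw [hs] at er2
    have h1 : r2 = 1 := mul_eq_right.1 er2.symm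
    rcases hr2 with rfl | rfl
    · exact H.tne (i + 1) (by omega) h1
    · exact H.tne (i + 1) (by omega) (inv_eq_one.1 h1)
  have hinjh : Function.Injective h := by
    refine (injective_iff_map_eq_one _).2 ?_
    rintro ⟨d, z⟩ (hz : f d * z.1 = 1)
    by_cases hz1 : z.1 = 1
    · rw [hz1, mul_one, ← map_one f] at hz
      exact Prod.ext (hf hz) (Subtype.ext hz1)
    · exfalso
      refine hnot ?_
      have hzr : z.1 ∈ f.range := ⟨d⁻¹, by rw [map_inv]; exact inv_eq_of_mul_eq_one_right hz⟩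
      have hcard : Nat.card ↥(Subgroup.zpowers (t (i + 2))) = 3 := by
        rw [Nat.card_zpowers, orderOf_eq_prime (H.tcube _ hi) (H.tne _ hi)]
      obtain ⟨m, hm⟩ := Subgroup.mem_zpowers_iff.1 (mem_zpowers_of_prime_card hcard
        (g' := (⟨t (i + 2), Subgroup.mem_zpowers _⟩ : ↥(Subgroup.zpowers (t (i + 2))))) (g := z)
        (fun e => hz1 (congrArg Subtype.val e)))
      have e := congrArg Subtype.val hm
      simp only [Subgroup.coe_zpow] at e
      exact e ▸ zpow_mem hzr m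
  have hcl : Subgroup.closure (Set.range ![t i, t (i + 1), t (i + 2)]) = h.range := by
    refine le_antisymm ((Subgroup.closure_le _).2 ?_) ?_
    · rintro _ ⟨k, rfl⟩
      fin_cases k
      · refine ⟨((d0 x, 1) : ↥(Diag F 3) × ↥(Subgroup.zpowers (t (i + 2)))), ?_⟩
        show f (d0 x) * (1 : G) = t i
        rw [mul_one]; exact hxe
      · refine ⟨((d1 y, 1) : ↥(Diag F 3) × ↥(Subgroup.zpowers (t (i + 2)))), ?_⟩
        show f (d1 y) * (1 : G) = t (i + 1)
        rw [mul_one]; exact hye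
      · refine ⟨((1, ⟨_, Subgroup.mem_zpowers _⟩) : ↥(Diag F 3) × ↥(Subgroup.zpowers (t (i + 2)))), ?_⟩
        show f 1 * t (i + 2) = t (i + 2)
        rw [map_one, one_mul]
    · rintro _ ⟨⟨d, z⟩, rfl⟩
      show f d * z.1 ∈ _
      refine mul_mem ?_ (Subgroup.zpowers_le.2 (Subgroup.subset_closure (Set.mem_range_self (f := ![t i, t (i + 1), t (i + 2)]) 2)) z.2)
      refine (sup_le (Subgroup.zpowers_le.2 (Subgroup.subset_closure (Set.mem_range_self (f := ![t i, t (i + 1), t (i + 2)]) 0)))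
        (Subgroup.zpowers_le.2 (Subgroup.subset_closure (Set.mem_range_self (f := ![t i, t (i + 1), t (i + 2)]) 1))) : _ ≤ Subgroup.closure _) (hgen d)
  refine ⟨?_, ?_⟩
  · rw [hcl]
    rintro _ ⟨⟨d, z⟩, rfl⟩ _ ⟨⟨d', z'⟩, rfl⟩
    rw [← map_mul, ← map_mul]
    congr 1
    refine Prod.ext (mul_comm d d') ?_
    haveI : IsMulCommutative ↥(Subgroup.zpowers (t (i + 2))) := inferInstance
    exact mul_comm' z z'
  · rw [hcl, Nat.card_congr (MonoidHom.ofInjective hinjh).toEquiv.symm, Nat.card_prod, card_diag_three hF,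
      Nat.card_zpowers, orderOf_eq_prime (H.tcube _ hi) (H.tne _ hi)]

end Chain

end CfsgLib.Phan.Two
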