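import Cfsg.Agent.Lib.Phan.Two.Base
import Mathlib.GroupTheory.Sylow

/-!
# A coordinate frame in dimension four from three diagonal elements and three involutions
-/

set_option autoImplicit false
set_option linter.all false
set_option maxHeartbeats 1000000

namespace CfsgLib.Phan.Two

open Matrix Equiv CfsgLib.SU CfsgLib.Lie.BoundedPres.SUBase CfsgLib.Lie.BoundedPres.SUGraph

universe u

variable {F : Type u} [Field F] [Fintype F] {n : ℕ} {C : UCtx F 2}

theorem sq_one {C : UCtx F 2} {x : Fˣ} (h : x * x = 1) : x = 1 := by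
  have := unit_cube C x
  rwa [pow_three, h, mul_one] at this

theorem eq_pow_of_ne_one (hF : Fintype.card F = 4) {x : Fˣ} (hx : x ≠ 1) (y : Fˣ) : ∃ k : ℕ, y = x ^ k := by
  classical
  haveI : Fact (Nat.Prime 3) := ⟨Nat.prime_three⟩
  have h : Subgroup.zpowers x = ⊤ := zpowers_eq_top_of_prime_card (card_units hF) hx
  obtain ⟨k, hk⟩ : y ∈ Submonoid.powers x := mem_powers_iff_mem_zpowers.2 (h ▸ Subgroup.mem_top y)
  exact ⟨k, hk.symm⟩

/-- permuted diagonal entries -/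
def perD (σ : Perm (Fin n)) (v : ↥(Diag F n)) : ↥(Diag F n) :=
  ⟨fun i => v.1 (σ i), by
    show ∏ i, v.1 (σ i) = 1
    rw [Equiv.prod_comp σ v.1]; exact v.2⟩

theorem ps_dg (σ : Perm (Fin n)) (v : ↥(Diag F n)) :
    ps C σ * dg C v * (ps C σ)⁻¹ = dg C (perD σ⁻¹ v) := by
  refine mul_inv_eq_iff_eq_mul.2 (ext_sv fun j => ?_)
  rw [suMat_mulVec_mul, suMat_mulVec_mul, dg_sv, ps_sv, dg_sv, Matrix.mulVec_smul, ps_sv]
  simp [perD]

/-- two opposite entries -/
def pairD {k l : Fin n} (hkl : k ≠ l) (x : Fˣ) : ↥(Diag F n) :=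
  ⟨Pi.mulSingle k x * Pi.mulSingle l x⁻¹, by
    show ∏ i, ((Pi.mulSingle k x * Pi.mulSingle l x⁻¹ : Fin n → Fˣ)) i = 1
    simp [Finset.prod_mul_distrib]⟩

theorem pairD_left {k l : Fin n} (hkl : k ≠ l) (x : Fˣ) : (pairD hkl x).1 k = x := by
  simp [pairD, Pi.mulSingle_eq_of_ne hkl]

theorem pairD_right {k l : Fin n} (hkl : k ≠ l) (x : Fˣ) : (pairD hkl x).1 l = x⁻¹ := by
  simp [pairD, Pi.mulSingle_eq_of_ne hkl.symm]

theorem supp_one (y : Fin n → F) {j : Fin n} (h : ∀ k, k ≠ j → y k = 0) : y = y j • sv j := by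
  funext k
  by_cases hk : k = j
  · subst hk; simp [sv]
  · simp [sv, hk, h k hk]

theorem eigen_zero {y : Fin n → F} {v : ↥(Diag F n)} {c : Fˣ} (h : (dg C v).1.1 *ᵥ y = (c : F) • y) {k : Fin n}
    (hk : y k ≠ 0) : v.1 k = c := by
  have e := congrFun h k
  rw [show (dg C v).1.1 = Matrix.diagonal (fun i => ((v.1 i : Fˣ) : F)) from rfl, Matrix.mulVec_diagonal,
    Pi.smul_apply, smul_eq_mul] at e
  exact Units.ext (mul_right_cancel₀ hk e)

/-- the normaliser of the diagonal subgroup is monomial -/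
theorem monomial {X : ↥(Cfsg.SU n F 2)} (h : ∀ T ∈ Tor C n, X⁻¹ * T * X ∈ Tor C n) (j : Fin n) :
    ∃ (k : Fin n) (a : Fˣ), X.1.1 *ᵥ sv j = (a : F) • sv k := by
  obtain ⟨k, hk⟩ : ∃ k, (X.1.1 *ᵥ sv j) k ≠ 0 := by
    by_contra hc
    push Not at hc
    refine sv_ne_zero (F := F) j ?_
    rw [← su_inv_mulVec X (sv j), show X.1.1 *ᵥ sv j = 0 from funext hc, Matrix.mulVec_zero]
  refine ⟨k, Units.mk0 _ hk, supp_one _ fun l hl => ?_⟩
  by_contra hl0
  obtain ⟨x, hx⟩ := exists_unit_ne_one C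
  set v := pairD (Ne.symm hl) x
  obtain ⟨w, hw⟩ := h (dg C v) ⟨v, rfl⟩
  have he : (dg C v).1.1 *ᵥ (X.1.1 *ᵥ sv j) = ((w.1 j : Fˣ) : F) • (X.1.1 *ᵥ sv j) := by
    rw [← Matrix.mulVec_smul, ← dg_sv (C := C), hw, ← suMat_mulVec_mul, ← suMat_mulVec_mul]
    group
  have e1 := eigen_zero he hk
  have e2 := eigen_zero he hl0
  rw [pairD_left] at e1
  rw [pairD_right, ← e1] at e2
  exact hx (sq_one (C := C) (by nth_rw 2 [← e2]; exact mul_inv_cancel x))

/-- an element commuting with the permuted diagonal elements -/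
theorem exists_perm {X : ↥(Cfsg.SU n F 2)} (h : ∀ T ∈ Tor C n, X⁻¹ * T * X ∈ Tor C n) :
    ∃ (π : Perm (Fin n)) (a : Fin n → Fˣ), ∀ j, X.1.1 *ᵥ sv j = (a j : F) • sv (π j) := by
  choose k a ha using monomial h
  have hinj : Function.Injective k := fun i j hij => by
    have e : X.1.1 *ᵥ ((a j : F) • sv i) = X.1.1 *ᵥ ((a i : F) • sv j) := by
      rw [Matrix.mulVec_smul, Matrix.mulVec_smul, ha, ha, hij, smul_smul, smul_smul, mul_comm]
    have := congrArg (fun y => (X⁻¹).1.1 *ᵥ y) e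
    simp only [su_inv_mulVec] at this
    exact (sv_smul_eq (a j).ne_zero this).1
  exact ⟨Equiv.ofBijective k (Finite.injective_iff_bijective.1 hinj), a, ha⟩

theorem conj_dg {X : ↥(Cfsg.SU n F 2)} {π : Perm (Fin n)} {a : Fin n → Fˣ}
    (ha : ∀ j, X.1.1 *ᵥ sv j = (a j : F) • sv (π j)) (v : ↥(Diag F n)) :
    X⁻¹ * dg C v * X = dg C (perD π v) := by
  rw [mul_assoc, inv_mul_eq_iff_eq_mul]
  refine ext_sv fun j => ?_
  rw [suMat_mulVec_mul, suMat_mulVec_mul, ha, Matrix.mulVec_smul, dg_sv, dg_sv, Matrix.mulVec_smul, ha]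
  simp [perD, smul_smul, mul_comm]

/-- the three-cycle -/
def gam : Perm (Fin 4) := swap 0 1 * swap 1 2

theorem perD_perD (σ τ : Perm (Fin n)) (v : ↥(Diag F n)) : perD σ (perD τ v) = perD (τ * σ) v := rfl

/-- a Sylow subgroup at three -/
def SylP (C : UCtx F 2) : Subgroup ↥(Cfsg.SU 4 F 2) where
  carrier := {X | ∃ (v : ↥(Diag F 4)) (k : ℕ), X = dg C v * ps C (gam ^ k)}
  one_mem' := ⟨1, 0, by simp⟩
  mul_mem' := by
    rintro _ _ ⟨v, k, rfl⟩ ⟨w, l, rfl⟩
    refine ⟨v * perD (gam ^ k)⁻¹ w, k + l, ?_⟩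
    rw [map_mul, ← ps_dg, pow_add, map_mul]
    group
  inv_mem' := by
    rintro _ ⟨v, k, rfl⟩
    refine ⟨perD ((gam ^ (2 * k))⁻¹) v⁻¹, 2 * k, ?_⟩
    have h3 : (ps C (gam ^ k))⁻¹ = ps C (gam ^ (2 * k)) := by
      refine inv_eq_of_mul_eq_one_right ?_
      rw [← map_mul, ← pow_add, show k + 2 * k = 3 * k by ring, pow_mul, show gam ^ 3 = 1 by decide, one_pow,
        map_one]
    rw [_root_.mul_inv_rev, h3, ← ps_dg, map_inv, inv_mul_cancel_right]

theorem sylP_tor : Tor C 4 ≤ SylP C := by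
  rintro _ ⟨v, rfl⟩
  exact ⟨v, 0, by simp⟩

theorem gam_mem : ps C gam ∈ SylP C := ⟨1, 1, by simp⟩

theorem card_sylP (hF : Fintype.card F = 4) : Nat.card ↥(SylP C) = 81 := by
  classical
  let f : ↥(Diag F 4) × Fin 3 → ↥(SylP C) := fun p => ⟨dg C p.1 * ps C (gam ^ p.2.val), p.1, p.2.val, rfl⟩
  have hf : Function.Bijective f := by
    refine ⟨fun ⟨v, k⟩ ⟨w, l⟩ h => ?_, fun ⟨X, v, k, hX⟩ => ⟨(v, ⟨k % 3, Nat.mod_lt _ (by norm_num)⟩), ?_⟩⟩
    · have h1 : dg C v * ps C (gam ^ k.val) = dg C w * ps C (gam ^ l.val) := congrArg Subtype.val h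
      have h2 := congrArg (fun X : ↥(Cfsg.SU 4 F 2) => X.1.1 *ᵥ sv 0) h1
      simp only [suMat_mulVec_mul, ps_sv, dg_sv] at h2
      have h3 := (sv_smul_eq (Units.ne_zero _) h2).1
      have : k = l := by
        have key : ∀ k l : Fin 3, (gam ^ k.val) 0 = (gam ^ l.val) 0 → k = l := by decide
        exact key k l h3
      subst this
      exact Prod.ext (dg_injective (mul_right_cancel h1)) rfl
    · refine Subtype.ext ?_
      show dg C v * ps C (gam ^ (k % 3)) = X
      rw [hX]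
      congr 2
      conv_rhs => rw [← Nat.mod_add_div k 3, pow_add, pow_mul, show gam ^ 3 = 1 by decide, one_pow, mul_one]
  rw [← Nat.card_eq_of_bijective f hf, Nat.card_prod, Nat.card_fin,
    Nat.card_congr (MonoidHom.ofInjective (dg_injective (C := C) (n := 4))).toEquiv, card_tor hF]

/-- abelian subgroups of order twenty-seven are diagonal in some frame -/
theorem conj_tor (hF : Fintype.card F = 4) (A : Subgroup ↥(Cfsg.SU 4 F 2)) (hA : Nat.card A = 27)
    (hc : ∀ x ∈ A, ∀ y ∈ A, x * y = y * x) :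
    ∃ g : ↥(Cfsg.SU 4 F 2), ∀ T, T ∈ A ↔ g⁻¹ * T * g ∈ Tor C 4 := by
  classical
  haveI : Fact (Nat.Prime 3) := ⟨Nat.prime_three⟩
  haveI : Finite ↥(Cfsg.SU 4 F 2) := inferInstance
  have hP : Nat.card ↥(SylP C) = 3 ^ (Nat.card ↥(Cfsg.SU 4 F 2)).factorization 3 := by
    rw [card_sylP hF, card_four hF, show (25920 : ℕ) = 3 ^ 4 * 320 by norm_num,
      Nat.factorization_mul (by norm_num) (by norm_num), Finsupp.add_apply, Nat.Prime.factorization_pow
      Nat.prime_three, Finsupp.single_eq_same, Nat.factorization_eq_zero_of_not_dvd (by norm_num)]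
    norm_num
  let P : Sylow 3 ↥(Cfsg.SU 4 F 2) := Sylow.ofCard (SylP C) hP
  obtain ⟨Q, hQ⟩ := (IsPGroup.of_card (p := 3) (n := 3) (show Nat.card A = 3 ^ 3 by rw [hA]; norm_num)).exists_le_sylow
  obtain ⟨g, hg⟩ := MulAction.exists_smul_eq (↥(Cfsg.SU 4 F 2)) P Q
  set B : Subgroup ↥(Cfsg.SU 4 F 2) := A.comap (MulAut.conj g).toMonoidHom with hB
  have hmem : ∀ T, T ∈ B ↔ g * T * g⁻¹ ∈ A := fun T => Iff.rfl
  have hBP : B ≤ SylP C := fun T hT => by
    have := hQ ((hmem T).1 hT)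
    rw [← hg, Sylow.coe_subgroup_smul, Subgroup.mem_pointwise_smul_iff_inv_smul_mem] at this
    simpa [mul_assoc, MulAut.smul_def, P] using this
  have hBcard : Nat.card B = 27 := by
    rw [← hA]
    exact Nat.card_congr ((MulAut.conj g).toEquiv.subtypeEquiv fun T => hmem T)
  have hBT : B ≤ Tor C 4 := by
    intro X hX
    obtain ⟨v, k, hXe⟩ := hBP hX
    by_contra hXT
    have hk : gam ^ k ≠ 1 := fun e => hXT (by rw [hXe, e, map_one, mul_one]; exact ⟨v, rfl⟩)
    have key : ∀ j : Fin 3, gam ^ j.val = 1 ∨ (∀ x : Fin 4, x = 0 ∨ x = 1 ∨ x = 2 ∨ x = 3) ∧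
        (gam ^ j.val) 3 = 3 ∧ (gam ^ j.val) 0 ≠ 0 ∧ (gam ^ j.val) ((gam ^ j.val) 0) ≠ 0 ∧
        (gam ^ j.val) ((gam ^ j.val) 0) ≠ (gam ^ j.val) 0 := by decide
    have hmod : gam ^ k = gam ^ (k % 3) := by
      conv_lhs => rw [← Nat.mod_add_div k 3, pow_add, pow_mul, show gam ^ 3 = 1 by decide, one_pow, mul_one]
    have hsmall : ∀ S ∈ B ⊓ Tor C 4, ∃ x : Fˣ, S = dg C (⟨![x, x, x, 1], by
        show ∏ i, (![x, x, x, 1] : Fin 4 → Fˣ) i = 1
        have := unit_cube C x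
        simp [Fin.prod_univ_four, pow_three, ← mul_assoc] at this ⊢
        exact this⟩ : ↥(Diag F 4)) := by
      rintro S ⟨hS, w, rfl⟩
      have hcomm : dg C w * X = X * dg C w := by
        have h := hc _ ((hmem _).1 hS) _ ((hmem _).1 hX)
        apply mul_left_cancel (a := g)
        apply mul_right_cancel (b := g⁻¹)
        simpa [mul_assoc] using h
      have e : ∀ j, w.1 ((gam ^ k) j) = w.1 j := fun j => by
        have h := congrArg (fun Y : ↥(Cfsg.SU 4 F 2) => Y.1.1 *ᵥ sv j) hcomm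
        simp only [hXe, suMat_mulVec_mul, ps_sv, dg_sv, Matrix.mulVec_smul, smul_smul] at h
        exact Units.ext (mul_left_cancel₀ (Units.ne_zero (v.1 ((gam ^ k) j))) (by
          linear_combination (sv_smul_eq (mul_ne_zero (Units.ne_zero _) (Units.ne_zero _)) h).2))
      refine ⟨w.1 0, congrArg (dg C) (Subtype.ext ?_)⟩
      rcases key ⟨k % 3, Nat.mod_lt _ (by norm_num)⟩ with h1 | ⟨-, -, h0, h00, h01⟩
      · exact absurd (hmod.trans h1) hk
      have hother : ∀ x : Fin 4, x ≠ 3 → w.1 x = w.1 0 := by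
        intro x hx
        have a1 := e 0
        have a2 := (e ((gam ^ k) 0)).trans a1
        rw [hmod] at a1 a2
        have : ∀ j : Fin 3, ∀ x : Fin 4, (gam ^ j.val) 0 ≠ 0 → x ≠ 3 →
            x = 0 ∨ x = (gam ^ j.val) 0 ∨ x = (gam ^ j.val) ((gam ^ j.val) 0) := by decide
        rcases this ⟨k % 3, Nat.mod_lt _ (by norm_num)⟩ x h0 hx with rfl | rfl | rfl
        exacts [rfl, a1, a2]
      have h3 : w.1 3 = 1 := by
        have hw : ∏ i, w.1 i = 1 := w.2
        rw [Fin.prod_univ_four, hother 1 (by decide), hother 2 (by decide)] at hw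
        have := unit_cube C (w.1 0)
        rw [pow_three, ← mul_assoc] at this
        rwa [this, one_mul] at hw
      funext i
      fin_cases i
      exacts [rfl, hother 1 (by decide), hother 2 (by decide), h3]
    have hle : Nat.card ↥(B ⊓ Tor C 4) ≤ 3 := by
      rw [← card_units hF]
      choose x hx using hsmall
      exact Nat.card_le_card_of_injective (fun S : ↥(B ⊓ Tor C 4) => x S.1 S.2) fun S T h => Subtype.ext (by
        rw [hx S.1 S.2, hx T.1 T.2]; simp only [h])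
    have hidx : (Tor C 4).relIndex B ≤ 3 := by
      have hP3 : (Tor C 4).relIndex (SylP C) = 3 := by
        have := Subgroup.relIndex_mul_index (sylP_tor (C := C))
        have h1 := Subgroup.card_mul_index ((Tor C 4).subgroupOf (SylP C))
        rw [Nat.card_congr (Subgroup.subgroupOfEquivOfLe (sylP_tor (C := C))).toEquiv, card_tor hF,
          card_sylP hF] at h1
        show ((Tor C 4).subgroupOf (SylP C)).index = 3
        omega
      exact hP3 ▸ Subgroup.relIndex_le_of_le_right hBP (by omega)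
    have h1 := Subgroup.card_mul_index ((Tor C 4).subgroupOf B)
    rw [show ((Tor C 4).subgroupOf B).index = (Tor C 4).relIndex B from rfl, hBcard,
      ← Subgroup.inf_subgroupOf_right, inf_comm,
      Nat.card_congr (Subgroup.subgroupOfEquivOfLe (inf_le_left : B ⊓ Tor C 4 ≤ B)).toEquiv] at h1
    have := Nat.mul_le_mul hle hidx
    omega
  have hBeq : B = Tor C 4 := Subgroup.eq_of_le_of_card_ge hBT (by rw [hBcard, card_tor hF])
  refine ⟨g, fun T => ?_⟩
  rw [← hBeq, hmem]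
  simp [mul_assoc]

theorem perm_invol : ∀ π : Perm (Fin 4), π * π = 1 → π = 1 ∨ ∃ a b c d : Fin 4,
    (a ≠ b ∧ c ≠ d ∧ a ≠ c ∧ a ≠ d ∧ b ≠ c ∧ b ≠ d) ∧ (π = swap a b ∨ π = swap a b * swap c d) := by
  decide

/-- an involution with two independent fixed diagonal elements is a transposition -/
theorem swap_of_fixed (hF : Fintype.card F = 4) {π : Perm (Fin 4)} (hπ : π * π = 1) {v x y : ↥(Diag F 4)}
    (hv : perD π v ≠ v) (hx : perD π x = x) (hy : perD π y = y) (hx1 : x ≠ 1) (hxy : ∀ k : ℕ, y ≠ x ^ k) :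
    ∃ a b, a ≠ b ∧ π = swap a b := by
  rcases perm_invol π hπ with rfl | ⟨a, b, c, d, ⟨hab, hcd, hac, had, hbc, hbd⟩, rfl | rfl⟩
  · exact absurd (Subtype.ext rfl) hv
  · exact ⟨a, b, hab, rfl⟩
  exfalso
  have hP : ∀ z : ↥(Diag F 4), perD (swap a b * swap c d) z = z →
      ∀ i : Fin 4, (i = a ∨ i = b) → z.1 i = z.1 a := by
    rintro z hz i (rfl | rfl)
    · rfl
    · have := congrArg (fun w : ↥(Diag F 4) => w.1 a) hz
      simpa [perD, swap_apply_def, hac, had, hab] using this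
  have hQ : ∀ z : ↥(Diag F 4), perD (swap a b * swap c d) z = z → z.1 d = z.1 c ∧ z.1 c = (z.1 a)⁻¹ := by
    intro z hz
    have h1 := congrArg (fun w : ↥(Diag F 4) => w.1 c) hz
    simp [perD, swap_apply_def, had.symm, hbd.symm, hcd, hac.symm, hbc.symm] at h1
    refine ⟨h1, ?_⟩
    have hu : ({a, b, c, d} : Finset (Fin 4)) = Finset.univ :=
      Finset.eq_univ_of_card _ (by simp [hab, hac, had, hbc, hbd, hcd])
    have hp : ∏ i, z.1 i = 1 := z.2
    rw [← hu, Finset.prod_insert (by simp [hab, hac, had]), Finset.prod_insert (by simp [hbc, hbd]),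
      Finset.prod_insert (by simp [hcd]), Finset.prod_singleton, hP z hz b (Or.inr rfl), h1] at hp
    refine eq_inv_of_mul_eq_one_right (sq_one (C := Classical.choice (CfsgLib.Classical.uctx_exists (F := F) (q := 2)
      (by rw [hF]; norm_num))) ?_)
    rw [← hp]; simp only [mul_comm, mul_assoc, mul_left_comm]
  have hall : ∀ (z w : ↥(Diag F 4)), perD (swap a b * swap c d) z = z → perD (swap a b * swap c d) w = w →
      z.1 a = w.1 a → z = w := by
    intro z w hz hw e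
    refine Subtype.ext (funext fun i => ?_)
    have hi : i = a ∨ i = b ∨ i = c ∨ i = d := by
      have key : ∀ a b c d i : Fin 4, a ≠ b → c ≠ d → a ≠ c → a ≠ d → b ≠ c → b ≠ d →
          i = a ∨ i = b ∨ i = c ∨ i = d := by decide
      exact key a b c d i hab hcd hac had hbc hbd
    rcases hi with rfl | rfl | rfl | rfl
    · exact e
    · rw [hP z hz _ (Or.inr rfl), hP w hw _ (Or.inr rfl), e]
    · rw [(hQ z hz).2, (hQ w hw).2, e]
    · rw [(hQ z hz).1, (hQ w hw).1, (hQ z hz).2, (hQ w hw).2, e]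
  have hxa : x.1 a ≠ 1 := fun e => hx1 (hall x 1 hx (Subtype.ext rfl) e)
  obtain ⟨k, hk⟩ := eq_pow_of_ne_one hF hxa (y.1 a)
  refine hxy k (hall y (x ^ k) hy ?_ (by simpa using hk))
  refine Subtype.ext (funext fun i => ?_)
  have := congrArg (fun w : ↥(Diag F 4) => w.1 i) hx
  simp [perD] at this ⊢
  rw [this]

end CfsgLib.Phan.Two
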