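import Cfsg.Agent.Lib.Phan.Two.Swaps

/-!
# Frames for three commuting elements and three involutions, and stabilisers of frame vectors
-/

set_option autoImplicit false
set_option linter.all false
set_option maxHeartbeats 1000000

namespace CfsgLib.Phan.Two

open Matrix Equiv CfsgLib.SU CfsgLib.Lie.BoundedPres.SUBase CfsgLib.Lie.BoundedPres.SUGraph

universe u

variable {F : Type u} [Field F] [Fintype F] {n : ℕ} {C : UCtx F 2}

/-- the frame -/
theorem exists_frame (hF : Fintype.card F = 4) (C : UCtx F 2) (t s : Fin 3 → ↥(Cfsg.SU 4 F 2))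
    (A : Subgroup ↥(Cfsg.SU 4 F 2)) (hA : Nat.card A = 27) (hc : ∀ x ∈ A, ∀ y ∈ A, x * y = y * x)
    (hgen : A = Subgroup.closure (Set.range t)) (hs : ∀ j, s j * s j = 1)
    (hinv : ∀ j, s j * t j * s j = (t j)⁻¹) (f02 : s 0 * t 2 * s 0 = t 2) (f20 : s 2 * t 0 * s 2 = t 0)
    (hs02 : s 0 * s 2 = s 2 * s 0)
    (a01 : ∃ r, (r = t 0 ∨ r = (t 0)⁻¹) ∧ s 0 * t 1 * s 0 = r * t 1)
    (a10 : ∃ r, (r = t 1 ∨ r = (t 1)⁻¹) ∧ s 1 * t 0 * s 1 = r * t 0)
    (a12 : ∃ r, (r = t 1 ∨ r = (t 1)⁻¹) ∧ s 1 * t 2 * s 1 = r * t 2)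
    (a21 : ∃ r, (r = t 2 ∨ r = (t 2)⁻¹) ∧ s 2 * t 1 * s 2 = r * t 1) :
    ∃ g : ↥(Cfsg.SU 4 F 2), ∀ j : Fin 3,
      g⁻¹ * s j * g = ps C (swap j.castSucc j.succ) ∧ g⁻¹ * t j * g ∈ Tor C 4 := by
  classical
  obtain ⟨g, hg⟩ := conj_tor (C := C) hF A hA hc
  have htA : ∀ j, t j ∈ A := fun j => hgen ▸ Subgroup.subset_closure ⟨j, rfl⟩
  choose v hv using fun j => (hg (t j)).1 (htA j)
  obtain ⟨s', hsdef⟩ : ∃ s' : Fin 3 → ↥(Cfsg.SU 4 F 2), ∀ j, s' j = g⁻¹ * s j * g := ⟨_, fun _ => rfl⟩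
  have hs' : ∀ j, (s' j)⁻¹ = s' j := fun j => by
    simp only [hsdef, _root_.mul_inv_rev, inv_inv, ← eq_inv_of_mul_eq_one_left (hs j)]; group
  have pm : ∀ {r : ↥(Cfsg.SU 4 F 2)} {l}, (r = t l ∨ r = (t l)⁻¹) → r ∈ A := by
    rintro r l (rfl | rfl)
    exacts [htA l, inv_mem (htA l)]
  have hsA : ∀ j k, s j * t k * s j ∈ A := by
    intro j k
    obtain ⟨r0, hr0, e0⟩ := a01
    obtain ⟨r1, hr1, e1⟩ := a10
    obtain ⟨r1', hr1', e1'⟩ := a12
    obtain ⟨r2, hr2, e2⟩ := a21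
    fin_cases j <;> fin_cases k
    · exact hinv 0 ▸ inv_mem (htA 0)
    · exact e0 ▸ mul_mem (pm hr0) (htA 1)
    · exact f02.symm ▸ htA 2
    · exact e1 ▸ mul_mem (pm hr1) (htA 0)
    · exact hinv 1 ▸ inv_mem (htA 1)
    · exact e1' ▸ mul_mem (pm hr1') (htA 2)
    · exact f20.symm ▸ htA 0
    · exact e2 ▸ mul_mem (pm hr2) (htA 1)
    · exact hinv 2 ▸ inv_mem (htA 2)
  have hnorm : ∀ j, ∀ T ∈ Tor C 4, (s' j)⁻¹ * T * s' j ∈ Tor C 4 := by
    intro j T hT
    have hTA : g * T * g⁻¹ ∈ A := (hg _).2 (by rwa [show g⁻¹ * (g * T * g⁻¹) * g = T by group])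
    have hle : A ≤ A.comap (MulAut.conj (s j)).toMonoidHom := by
      nth_rw 1 [hgen]
      rw [Subgroup.closure_le]
      rintro _ ⟨k, rfl⟩
      show s j * t k * (s j)⁻¹ ∈ A
      rw [← eq_inv_of_mul_eq_one_left (hs j)]; exact hsA j k
    have h1 : s j * (g * T * g⁻¹) * (s j)⁻¹ ∈ A := hle hTA
    rw [← eq_inv_of_mul_eq_one_left (hs j), hg] at h1
    rw [hs']
    convert h1 using 1
    simp only [hsdef]; group
  choose π a hπa using fun j => exists_perm (hnorm j)
  have conj : ∀ j u, s' j * dg C u * s' j = dg C (perD (π j) u) := fun j u => by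
    have := conj_dg (C := C) (hπa j) u
    rwa [hs'] at this
  have tr : ∀ j k X, s j * t k * s j = X → dg C (perD (π j) (v k)) = g⁻¹ * X * g := fun j k X e => by
    rw [← conj, hv, ← e]; simp only [hsdef]; group
  have trm : ∀ j k w l, (w = t l ∨ w = (t l)⁻¹) → s j * t k * s j = w * t k →
      ∃ r, (r = v l ∨ r = (v l)⁻¹) ∧ perD (π j) (v k) = r * v k := by
    intro j k w l hw e
    rcases hw with rfl | rfl
    · exact ⟨v l, Or.inl rfl, dg_injective (by rw [tr j k _ e, map_mul, hv, hv]; group)⟩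
    · exact ⟨(v l)⁻¹, Or.inr rfl, dg_injective (by rw [tr j k _ e, map_mul, map_inv, hv, hv]; group)⟩
  have hππ : ∀ j i, π j (π j i) = i ∧ a j (π j i) * a j i = 1 := fun j i => by
    have h : (s' j * s' j).1.1 *ᵥ sv i = sv i := by
      conv_lhs => rw [show s' j * s' j = 1 by nth_rw 1 [← hs' j]; exact inv_mul_cancel _]
      exact su_one_mulVec _
    rw [suMat_mulVec_mul, hπa, Matrix.mulVec_smul, hπa, smul_smul] at h
    have h2 := sv_smul_eq (b := 1) (mul_ne_zero (Units.ne_zero _) (Units.ne_zero _)) (h.trans (one_smul _ _).symm)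
    exact ⟨h2.1, Units.ext (by push_cast; linear_combination h2.2)⟩
  have hvgen : Subgroup.closure (Set.range v) = ⊤ := by
    rw [eq_top_iff]
    intro u _
    have h1 : g * dg C u * g⁻¹ ∈ A := (hg _).2 (by rw [show g⁻¹ * (g * dg C u * g⁻¹) * g = dg C u by group]; exact ⟨u, rfl⟩)
    have hle : A ≤ (Subgroup.closure (Set.range v)).map ((MulAut.conj g).toMonoidHom.comp (dg C)) := by
      rw [hgen, MonoidHom.map_closure]
      refine Subgroup.closure_mono ?_
      rintro _ ⟨k, rfl⟩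
      exact ⟨v k, ⟨k, rfl⟩, by show g * dg C (v k) * g⁻¹ = t k; rw [hv]; group⟩
    obtain ⟨u', hu', e⟩ := hle h1
    have e2 : dg C u' = dg C u := mul_left_cancel (mul_right_cancel (e : g * dg C u' * g⁻¹ = g * dg C u * g⁻¹))
    exact dg_injective e2 ▸ hu'
  have hperm : ∀ j l, s j * s l = s l * s j → π j * π l = π l * π j := fun j l e => Perm.ext fun i => by
    have h : (s' j * s' l).1.1 *ᵥ sv i = (s' l * s' j).1.1 *ᵥ sv i := by
      rw [show s' j * s' l = g⁻¹ * (s j * s l) * g by simp only [hsdef]; group, e,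
        show g⁻¹ * (s l * s j) * g = s' l * s' j by simp only [hsdef]; group]
    rw [suMat_mulVec_mul, suMat_mulVec_mul, hπa, hπa, Matrix.mulVec_smul, Matrix.mulVec_smul, hπa, hπa, smul_smul,
      smul_smul] at h
    exact (sv_smul_eq (mul_ne_zero (Units.ne_zero _) (Units.ne_zero _)) h).1
  obtain ⟨r0, hr0, e0⟩ := a01
  obtain ⟨r1, hr1, e1⟩ := a10
  obtain ⟨r1', hr1', e1'⟩ := a12
  obtain ⟨r2, hr2, e2⟩ := a21
  obtain ⟨p, hp⟩ := path_frame hF C v π (fun j => Perm.ext fun i => (hππ j i).1) hvgen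
    (fun j => dg_injective (by rw [tr j j _ (hinv j), map_inv, hv]; group))
    (dg_injective (by rw [tr 0 2 _ f02, hv])) (dg_injective (by rw [tr 2 0 _ f20, hv])) (hperm 0 2 hs02)
    (trm 0 1 _ 0 hr0 e0) (trm 1 0 _ 1 hr1 e1) (trm 1 2 _ 1 hr1' e1') (trm 2 1 _ 2 hr2 e2)
  -- rescaling
  have hfixed : ∀ j i, π j i = i → a j i = 1 := fun j i h => sq_one (C := C) (by
    have := (hππ j i).2
    rwa [h] at this)
  let u : Fin 4 → Fˣ := ![1, a 0 (p 0), a 1 (p 1) * a 0 (p 0), a 2 (p 2) * (a 1 (p 1) * a 0 (p 0))]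
  have hu : ∀ j : Fin 3, u j.succ = a j (p j.castSucc) * u j.castSucc := fun j => by
    fin_cases j <;> simp [u]
  let δ : Fˣ := (∏ i, u i)⁻¹
  let w : ↥(Diag F 4) := ⟨fun i => δ * u i, by
    show ∏ i, δ * u i = 1
    rw [Finset.prod_mul_distrib, Finset.prod_const, Finset.card_univ, Fintype.card_fin, pow_succ, unit_cube C δ,
      one_mul, inv_mul_cancel]⟩
  obtain ⟨h, hh⟩ : ∃ h : ↥(Cfsg.SU 4 F 2), ∀ i, h.1.1 *ᵥ sv i = ((δ * u i : Fˣ) : F) • sv (p i) :=
    ⟨ps C p * dg C w, fun i => by rw [suMat_mulVec_mul, dg_sv, Matrix.mulVec_smul, ps_sv]⟩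
  refine ⟨g * h, fun j => ⟨?_, ?_⟩⟩
  · rw [show (g * h)⁻¹ * s j * (g * h) = h⁻¹ * s' j * h by simp only [hsdef]; group, mul_assoc,
      inv_mul_eq_iff_eq_mul]
    refine ext_sv fun i => ?_
    rw [suMat_mulVec_mul, suMat_mulVec_mul, ps_sv, hh, hh, Matrix.mulVec_smul, hπa, smul_smul]
    have hπi : π j (p i) = p (swap j.castSucc j.succ i) := by
      rw [hp j, ← p.injective.swap_apply]
    rw [hπi]
    congr 1
    rw [← Units.val_mul]
    congr 1
    rcases eq_or_ne i j.castSucc with rfl | h1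
    · rw [swap_apply_left, hu, mul_assoc, mul_comm (u _)]
    rcases eq_or_ne i j.succ with rfl | h2
    · rw [swap_apply_right, hu]
      have e := (hππ j (p j.castSucc)).2
      rw [hp j, swap_apply_left] at e
      calc δ * (a j (p j.castSucc) * u j.castSucc) * a j (p j.succ)
          = δ * u j.castSucc * (a j (p j.succ) * a j (p j.castSucc)) := by ac_rfl
        _ = _ := by rw [e, mul_one]
    · have hi : swap j.castSucc j.succ i = i := swap_apply_of_ne_of_ne h1 h2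
      rw [hi] at hπi
      rw [hi, hfixed j _ hπi, mul_one]
  · rw [show (g * h)⁻¹ * t j * (g * h) = h⁻¹ * (g⁻¹ * t j * g) * h by group, ← hv, conj_dg (π := p) (a := fun i => δ * u i)
      (fun i => hh i)]
    exact ⟨_, rfl⟩

/-- a subgroup like `SU₃` containing diagonal and permutation elements of three coordinates fixes the fourth -/
theorem range_eq_fix (hF : Fintype.card F = 4) (a : ↥(Cfsg.SU 3 F 2) →* ↥(Cfsg.SU 4 F 2))
    (ha : Function.Injective a) (v : ↥(Diag F 4)) (hv1 : v ≠ 1) (hv2 : v.1 2 = 1) (hv3 : v.1 3 = 1)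
    (hv : dg C v ∈ a.range) (h0 : ps C (swap (0 : Fin 4) 1) ∈ a.range) (h1 : ps C (swap (1 : Fin 4) 2) ∈ a.range) :
    a.range = fixFrom 3 := by
  classical
  haveI : Fact (Nat.Prime 3) := ⟨Nat.prime_three⟩
  have hc : ps C gam ∈ a.range := by rw [gam, map_mul]; exact mul_mem h0 h1
  have hv01 : v.1 1 = (v.1 0)⁻¹ := by
    have := v.2
    change ∏ i, v.1 i = 1 at this
    rw [Fin.prod_univ_four, hv2, hv3, mul_one, mul_one] at this
    exact eq_inv_of_mul_eq_one_right this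
  have hx : v.1 0 ≠ 1 := fun e => hv1 (Subtype.ext (funext fun i => by
    fin_cases i
    exacts [e, hv01.trans (by rw [e, inv_one]; rfl), hv2, hv3]))
  set x := v.1 0
  set v' := perD gam⁻¹ v with hv'def
  have hv' : dg C v' ∈ a.range := by rw [← ps_dg]; exact mul_mem (mul_mem hc hv) (inv_mem hc)
  have hv'0 : v'.1 0 = 1 ∧ v'.1 1 = x ∧ v'.1 2 = x⁻¹ ∧ v'.1 3 = 1 := by
    refine ⟨?_, ?_, ?_, ?_⟩
    · show v.1 (gam⁻¹ 0) = 1; rw [show gam⁻¹ (0 : Fin 4) = 2 by decide, hv2]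
    · show v.1 (gam⁻¹ 1) = x; rw [show gam⁻¹ (1 : Fin 4) = 0 by decide]
    · show v.1 (gam⁻¹ 2) = x⁻¹; rw [show gam⁻¹ (2 : Fin 4) = 1 by decide, hv01]
    · show v.1 (gam⁻¹ 3) = 1; rw [show gam⁻¹ (3 : Fin 4) = 3 by decide, hv3]
  obtain ⟨ω, hω⟩ := exists_unit_ne_one C
  let z0 : ↥(Diag F 3) := ⟨fun _ => ω, by
    show ∏ _i : Fin 3, ω = 1
    rw [Finset.prod_const, Finset.card_univ, Fintype.card_fin, unit_cube C]⟩
  have hz0c : ∀ X : ↥(Cfsg.SU 3 F 2), dg C z0 * X = X * dg C z0 := fun X => ext_sv fun j => by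
    rw [suMat_mulVec_mul, suMat_mulVec_mul, dg_sv, Matrix.mulVec_smul]
    show Matrix.diagonal _ *ᵥ _ = _
    funext i
    simp [Matrix.mulVec_diagonal, z0]
  set z := a (dg C z0) with hz
  have hzc : ∀ X ∈ a.range, z * X = X * z := by
    rintro _ ⟨X, rfl⟩; rw [hz, ← map_mul, hz0c, map_mul]
  have hsep : ∀ j k : Fin 4, v.1 j = v.1 k → v'.1 j = v'.1 k → j = k := by
    obtain ⟨w0, w1, w2, w3⟩ := hv'0
    have n1 : x⁻¹ ≠ 1 := inv_ne_one.2 hx
    have n2 : x ≠ x⁻¹ := fun e => hx (sq_one (C := C) (by nth_rw 2 [e]; exact mul_inv_cancel x))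
    have hv4 : v.1 = ![x, x⁻¹, 1, 1] := funext fun i => by
      fin_cases i
      exacts [rfl, hv01, hv2, hv3]
    have hv4' : v'.1 = ![1, x, x⁻¹, 1] := funext fun i => by
      fin_cases i
      exacts [w0, w1, w2, w3]
    intro j k e e'
    rw [hv4] at e
    rw [hv4'] at e'
    fin_cases j <;> fin_cases k <;>
      first | rfl | exact absurd e hx | exact absurd e.symm hx | exact absurd e n1 | exact absurd e.symm n1 |
        exact absurd e n2 | exact absurd e.symm n2 | exact absurd e' hx | exact absurd e'.symm hx |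
        exact absurd e' n1 | exact absurd e'.symm n1
  have hzd : z ∈ Tor C 4 := mem_tor.2 fun j => by
    refine ⟨(z.1.1 *ᵥ sv j) j, supp_one _ fun k hk => ?_⟩
    by_contra hne
    have key : ∀ u : ↥(Diag F 4), dg C u ∈ a.range → u.1 k = u.1 j := fun u hu => by
      refine eigen_zero (C := C) (c := u.1 j) ?_ hne
      rw [← suMat_mulVec_mul, ← hzc _ hu, suMat_mulVec_mul, dg_sv, Matrix.mulVec_smul]
    exact hk (hsep k j (key v hv) (key v' hv'))
  obtain ⟨w, hw⟩ := hzd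
  have hwg : ∀ j, w.1 (gam j) = w.1 j := fun j => by
    have h := congrArg (fun X : ↥(Cfsg.SU 4 F 2) => X.1.1 *ᵥ sv j) (hzc _ hc)
    simp only [← hw, suMat_mulVec_mul, dg_sv, Matrix.mulVec_smul, ps_sv] at h
    exact Units.ext (sv_smul_eq (Units.ne_zero _) h).2
  have hw1 : w.1 1 = w.1 0 := by have := hwg 0; rwa [show gam (0 : Fin 4) = 1 by decide] at this
  have hw2 : w.1 2 = w.1 0 := by
    have := hwg 1; rw [show gam (1 : Fin 4) = 2 by decide] at this; exact this.trans hw1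
  have hw3 : w.1 3 = 1 := by
    have h : ∏ i, w.1 i = 1 := w.2
    have hcu := unit_cube C (w.1 0)
    rw [pow_three, ← mul_assoc] at hcu
    rwa [Fin.prod_univ_four, hw1, hw2, hcu, one_mul] at h
  have hw0 : w.1 0 ≠ 1 := fun e => by
    have h1 : w = 1 := Subtype.ext (funext fun i => by
      fin_cases i
      exacts [e, hw1.trans e, hw2.trans e, hw3])
    have h2 : dg C z0 = 1 := ha (by rw [map_one, ← hz, ← hw, h1, map_one])
    exact hω (congrArg (fun u : ↥(Diag F 3) => u.1 0) (dg_injective (h2.trans (map_one _).symm)))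
  have hline : ∀ X : ↥(Cfsg.SU 3 F 2), ∃ l : Fˣ, (a X).1.1 *ᵥ sv 3 = (l : F) • sv 3 := fun X => by
    have hy : (dg C w).1.1 *ᵥ ((a X).1.1 *ᵥ sv 3) = ((1 : Fˣ) : F) • ((a X).1.1 *ᵥ sv 3) := by
      rw [← suMat_mulVec_mul, hw, hzc _ ⟨X, rfl⟩, suMat_mulVec_mul, ← hw, dg_sv, hw3, Matrix.mulVec_smul]
    have := supp_one ((a X).1.1 *ᵥ sv 3) (j := 3) fun k hk => by
      by_contra hne
      have h := eigen_zero hy hne
      refine hw0 ?_
      fin_cases k
      exacts [h, hw1.symm.trans h, hw2.symm.trans h, absurd rfl hk]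
    obtain ⟨l, hl⟩ := exists_scalar this
    exact ⟨l, hl ▸ this⟩
  choose lam hlam using hline
  let f : ↥(Cfsg.SU 3 F 2) →* Fˣ :=
    { toFun := lam
      map_one' := Units.ext (sv_smul_eq (n := 4) (b := ((1 : Fˣ) : F)) (i := 3) (j := 3) (Units.ne_zero _) (by
        rw [← hlam, map_one, su_one_mulVec, Units.val_one, one_smul])).2
      map_mul' := fun X Y => Units.ext (sv_smul_eq (n := 4) (i := 3) (j := 3) (Units.ne_zero _) (by
        rw [← hlam, map_mul, suMat_mulVec_mul, hlam, Matrix.mulVec_smul, hlam, smul_smul, Units.val_mul,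
          mul_comm])).2 }
  set Q := Subgroup.closure ({dg C v, dg C v', ps C gam} : Set ↥(Cfsg.SU 4 F 2)) with hQ
  have hQP : Q ≤ SylP C := by
    rw [hQ, Subgroup.closure_le]
    rintro _ (rfl | rfl | rfl)
    exacts [sylP_tor ⟨v, rfl⟩, sylP_tor ⟨v', rfl⟩, gam_mem]
  have hQK : Q ≤ f.ker.map a := by
    rw [hQ, Subgroup.closure_le]
    have key : ∀ Y ∈ a.range, Y.1.1 *ᵥ sv 3 = sv 3 → Y ∈ f.ker.map a := by
      rintro _ ⟨X, rfl⟩ hY
      refine ⟨X, Units.ext (sv_smul_eq (n := 4) (b := ((1 : Fˣ) : F)) (i := 3) (j := 3) (Units.ne_zero _) (by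
        show ((lam X : Fˣ) : F) • sv 3 = _
        rw [← hlam, hY, Units.val_one, one_smul])).2, rfl⟩
    rintro _ (rfl | rfl | rfl)
    · exact key _ hv (by rw [dg_sv, hv3, Units.val_one, one_smul])
    · exact key _ hv' (by rw [dg_sv, hv'0.2.2.2, Units.val_one, one_smul])
    · exact key _ hc (by rw [ps_sv, show gam (3 : Fin 4) = 3 by decide])
  have hQ27 : 27 ∣ Nat.card Q := by
    obtain ⟨k, -, hk⟩ := (Nat.dvd_prime_pow Nat.prime_three).1
      (show Nat.card Q ∣ 3 ^ 4 by rw [← show Nat.card (SylP C) = 3 ^ 4 by rw [card_sylP hF]; rfl]; exact Subgroup.card_dvd_of_le hQP)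
    have hmv : dg C v ∈ Q := Subgroup.subset_closure (Set.mem_insert _ _)
    have hmv' : dg C v' ∈ Q := Subgroup.subset_closure (Set.mem_insert_of_mem _ (Set.mem_insert _ _))
    have h9 : Nat.card ↥(Q ⊓ Tor C 4) ≥ 9 := by
      let e : Fˣ × Fˣ → ↥(Q ⊓ Tor C 4) := fun p => ⟨dg C (v ^ (eq_pow_of_ne_one hF hx p.1).choose * v' ^ (eq_pow_of_ne_one hF hx p.2).choose),
        ⟨by
          rw [map_mul, map_pow, map_pow]
          exact mul_mem (pow_mem hmv _) (pow_mem hmv' _), _, rfl⟩⟩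
      have he : Function.Injective e := fun p p' h => by
        have h1 := dg_injective (congrArg Subtype.val h)
        have h0 := congrArg (fun u : ↥(Diag F 4) => u.1 0) h1
        have h2 := congrArg (fun u : ↥(Diag F 4) => u.1 2) h1
        simp [hv'0.1, hv'0.2.2.1, hv2] at h0 h2
        have a1 := (eq_pow_of_ne_one hF hx p.1).choose_spec
        have a1' := (eq_pow_of_ne_one hF hx p'.1).choose_spec
        have a2 := (eq_pow_of_ne_one hF hx p.2).choose_spec
        have a2' := (eq_pow_of_ne_one hF hx p'.2).choose_spec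
        exact Prod.ext (a1.trans (h0.trans a1'.symm)) (a2.trans (h2.trans a2'.symm))
      have := Nat.card_le_card_of_injective e he
      rw [Nat.card_prod, card_units hF] at this
      omega
    have hlt : 2 * Nat.card ↥(Q ⊓ Tor C 4) ≤ Nat.card Q := by
      have h1 := Subgroup.card_mul_index ((Q ⊓ Tor C 4).subgroupOf Q)
      rw [Nat.card_congr (Subgroup.subgroupOfEquivOfLe (inf_le_left : Q ⊓ Tor C 4 ≤ Q)).toEquiv] at h1
      have h2 : ((Q ⊓ Tor C 4).subgroupOf Q).index ≠ 1 := by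
        rw [Ne, Subgroup.index_eq_one, Subgroup.subgroupOf_eq_top]
        intro hle
        obtain ⟨u, hu⟩ := (hle (Subgroup.subset_closure (Or.inr (Or.inr rfl)) : ps C gam ∈ Q)).2
        have := congrArg (fun X : ↥(Cfsg.SU 4 F 2) => X.1.1 *ᵥ sv 0) hu
        simp only [dg_sv, ps_sv] at this
        have h := (sv_smul_eq (b := 1) (Units.ne_zero _) (this.trans (one_smul _ _).symm)).1
        exact absurd h (by decide)
      have h3 : ((Q ⊓ Tor C 4).subgroupOf Q).index ≠ 0 := Subgroup.index_ne_zero_of_finite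
      calc 2 * Nat.card ↥(Q ⊓ Tor C 4) ≤ ((Q ⊓ Tor C 4).subgroupOf Q).index * Nat.card ↥(Q ⊓ Tor C 4) :=
            Nat.mul_le_mul_right _ (by omega)
        _ = _ := by rw [mul_comm, h1]
    rw [hk] at hlt ⊢
    have hk3 : 3 ≤ k := by
      by_contra hk2
      have : 3 ^ k ≤ 3 ^ 2 := Nat.pow_le_pow_right (by norm_num) (by omega)
      omega
    exact pow_dvd_pow 3 hk3
  have hKcard : 27 ∣ Nat.card f.ker := by
    have := hQ27.trans (Subgroup.card_dvd_of_le hQK)
    rwa [← Nat.card_congr (Subgroup.equivMapOfInjective f.ker a ha).toEquiv] at this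
  have hker : f.ker = ⊤ := by
    rw [← Subgroup.index_eq_one]
    have h1 := Subgroup.card_mul_index f.ker
    rw [card_three hF] at h1
    have h3 : f.ker.index ∣ 3 := by
      have h := Subgroup.card_subgroup_dvd_card f.range
      rw [card_units hF] at h
      rwa [Subgroup.index_ker]
    obtain ⟨c, hcc⟩ := hKcard
    rw [hcc, mul_assoc] at h1
    have h8 : f.ker.index ∣ 8 := ⟨c, by rw [mul_comm]; exact (Nat.eq_of_mul_eq_mul_left (by norm_num : 0 < 27) (h1.trans (by norm_num : (216 : ℕ) = 27 * 8))).symm⟩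
    exact Nat.dvd_one.1 (by simpa using Nat.dvd_gcd h3 h8)
  refine Subgroup.eq_of_le_of_card_ge ?_ ?_
  · rintro _ ⟨X, rfl⟩ i hi
    rw [show i = 3 from Fin.ext (by have := i.isLt; simp; omega), hlam,
      show lam X = 1 from MonoidHom.mem_ker.1 (hker ▸ Subgroup.mem_top X), Units.val_one, one_smul]
  · have e1 : Nat.card a.range = Nat.card ↥(Cfsg.SU 3 F 2) := (Nat.card_congr (MonoidHom.ofInjective ha).toEquiv).symm
    have e2 : Nat.card (fixFrom (F := F) (q := 2) (n := 4) 3) = Nat.card ↥(Cfsg.SU 3 F 2) := by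
      rw [← embW_zero_range (C := C) (m := 3) (i := 0) (h := (by norm_num : 0 + 3 ≤ 4))]
      exact (Nat.card_congr (MonoidHom.ofInjective (emb_injective (C := C) (f := win 3 0 (by norm_num)) (hf := win_inj))).toEquiv).symm
    rw [e1, e2]

end CfsgLib.Phan.Two
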