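import Cfsg.Agent.Lib.Phan.Two.Perms

/-!
# From a symmetric group and one window to the whole unitary group
-/

set_option autoImplicit false
set_option linter.all false
set_option maxHeartbeats 1000000

namespace CfsgLib.Phan.Two

open Matrix Equiv CfsgLib.SU CfsgLib.Lie.BoundedPres CfsgLib.Lie.BoundedPres.SUBase
open CfsgLib.Lie.BoundedPres.SUGraph

universe u

variable {F : Type u} [Field F] [Fintype F] {C : UCtx F 2} {G : Type*} [Group G] {N : ℕ}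

/-- the data -/
structure Data (C : UCtx F 2) (hN : 5 ≤ N) (Θ : Perm (Fin N) →* G) (η : ↥(Cfsg.SU 4 F 2) →* G) : Prop where
  agree : ∀ σ : Perm (Fin 4), Θ (Perm.viaEmbedding σ ⟨four (show 4 ≤ N by omega), four_inj _⟩) = η (ps C σ)
  high : ∀ j, 4 ≤ j → ∀ h : j + 1 < N, ∀ X, Commute (Θ (swap (pt j (by omega)) (pt (j + 1) h))) (η X)
  mid : ∀ j, 3 ≤ j → ∀ h : j + 1 < N, ∀ X ∈ fixFrom (F := F) (q := 2) (n := 4) 3,
    Commute (Θ (swap (pt j (by omega)) (pt (j + 1) h))) (η X)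
  six : 5 < N → ∃ σ : Perm (Fin N), (∀ k : Fin N, k.val < 3 → (σ k).val = k.val + 3) ∧
    ∀ X ∈ fixFrom (F := F) (q := 2) (n := 4) 3, ∀ Y ∈ fixFrom (F := F) (q := 2) (n := 4) 3,
      Commute (Θ σ * η X * (Θ σ)⁻¹) (η Y)

variable (C) in
/-- the permutations in the product -/
def Pm (Θ : Perm (Fin N) →* G) : Perm (Fin N) →* ↥(Cfsg.SU N F 2) × G := (ps C).prod Θ

variable (C) in
/-- the window in the product -/
def Wd (hN : 4 ≤ N) (η : ↥(Cfsg.SU 4 F 2) →* G) : ↥(Cfsg.SU 4 F 2) →* ↥(Cfsg.SU N F 2) × G :=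
  (embW C N 4 0 (by omega)).prod η

theorem win_four (hN : 4 ≤ N) (h : 0 + 4 ≤ N) :
    (⟨win 4 0 h, win_inj⟩ : Fin 4 ↪ Fin N) = ⟨four hN, four_inj hN⟩ :=
  Function.Embedding.ext fun i => Fin.ext (by simp [win, four])

/-- in six coordinates -/
theorem via_six (h6 : 6 ≤ N) (a b : Fin 6) :
    Perm.viaEmbeddingHom (Fin.castLEEmb h6) (swap a b) = swap (Fin.castLE h6 a) (Fin.castLE h6 b) := by
  rw [Perm.viaEmbeddingHom_apply, via_swap]; rfl

namespace Data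

variable {hN : 5 ≤ N} {Θ : Perm (Fin N) →* G} {η : ↥(Cfsg.SU 4 F 2) →* G} (D : Data C hN Θ η)
include D

theorem agree0 (σ : Perm (Fin 4)) :
    Pm C Θ (Perm.viaEmbedding σ ⟨four (show 4 ≤ N by omega), four_inj _⟩) = Wd C (by omega) η (ps C σ) := by
  refine Prod.ext ?_ (D.agree σ)
  show ps C _ = embW C N 4 0 (by omega) (ps C σ)
  rw [emb_ps, win_four (show 4 ≤ N by omega)]

theorem swap_emb {j : ℕ} (h : j + 1 < N) :
    ps C (swap (pt j (by omega)) (pt (j + 1) h)) = embW C N 2 j (by omega) (ps C (swap (0 : Fin 2) 1)) := by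
  rw [emb_ps, via_swap]
  exact congrArg (ps C) (congrArg₂ swap (Fin.ext (by simp [win])) (Fin.ext (by simp [win])))

theorem fix_four (σ : Perm (Fin N)) (hσ : ∀ i : Fin N, i.val < 4 → σ i = i) (X : ↥(Cfsg.SU 4 F 2)) :
    Commute (Pm C Θ σ) (Wd C (by omega) η X) := by
  have h := high_mem 4 ((Subgroup.centralizer ({Wd C (show 4 ≤ N by omega) η X} : Set _)).comap (Pm C Θ))
    (fun j hj h => Subgroup.mem_centralizer_singleton_iff.2 (Prod.ext
      (by show ps C _ * _ = _ * ps C _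
          rw [swap_emb D h]
          exact ((embW_commute (h := (by omega : 0 + 4 ≤ N)) (by omega) X _).symm))
      (D.high j hj h X).eq)) σ hσ
  exact Subgroup.mem_centralizer_singleton_iff.1 h

theorem fix_three (σ : Perm (Fin N)) (hσ : ∀ i : Fin N, i.val < 3 → σ i = i) (B : ↥(Cfsg.SU 3 F 2)) :
    Commute (Pm C Θ σ) (Wd C (by omega) η (embW C 4 3 0 (by norm_num) B)) := by
  have hB : embW C 4 3 0 (by norm_num) B ∈ fixFrom (F := F) (q := 2) (n := 4) 3 :=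
    embW_zero_range (C := C) (i := 0) (h := (by norm_num : 0 + 3 ≤ 4)) ▸ ⟨B, rfl⟩
  have h := high_mem 3 ((Subgroup.centralizer
    ({Wd C (show 4 ≤ N by omega) η (embW C 4 3 0 (by norm_num) B)} : Set _)).comap (Pm C Θ))
    (fun j hj h => Subgroup.mem_centralizer_singleton_iff.2 (Prod.ext
      (by show ps C _ * embW C N 4 0 _ (embW C 4 3 0 _ B) = embW C N 4 0 _ (embW C 4 3 0 _ B) * ps C _
          rw [swap_emb D h, embW_comp]
          exact ((embW_commute (h := (by omega : 0 + 0 + 3 ≤ N)) (by omega) B _).symm))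
      (D.mid j hj h _ hB).eq)) σ hσ
  exact Subgroup.mem_centralizer_singleton_iff.1 h

theorem stab0 (σ : Perm (Fin N)) (hσ : ∀ i : Fin N, i.val < 4 → (σ i).val < 4) (A : ↥(Cfsg.SU 4 F 2)) :
    ∃ B, Pm C Θ σ * Wd C (show 4 ≤ N by omega) η A * (Pm C Θ σ)⁻¹ = Wd C (show 4 ≤ N by omega) η B := by
  have hN4 : 4 ≤ N := by omega
  let τ : Perm (Fin 4) := Equiv.ofBijective (fun i => ⟨(σ (four hN4 i)).val, hσ _ i.isLt⟩)
    (Finite.injective_iff_bijective.1 fun a b h => four_inj hN4 (σ.injective (Fin.ext (congrArg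
      (fun z : Fin 4 => z.val) h))))
  set μ := Perm.viaEmbedding τ ⟨four hN4, four_inj hN4⟩ with hμ
  have hfix : ∀ i : Fin N, i.val < 4 → (μ⁻¹ * σ) i = i := fun i hi => by
    have h1 : μ i = σ i := by
      have h2 := Perm.viaEmbedding_apply τ ⟨four hN4, four_inj hN4⟩ ⟨i.val, hi⟩
      rw [← hμ] at h2
      exact h2
    rw [Perm.mul_apply, ← h1]
    exact μ.symm_apply_apply i
  refine ⟨ps C τ * A * (ps C τ)⁻¹, ?_⟩
  rw [show Pm C Θ σ = Pm C Θ μ * Pm C Θ (μ⁻¹ * σ) by rw [← map_mul, mul_inv_cancel_left]]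
  rw [show Pm C Θ μ * Pm C Θ (μ⁻¹ * σ) * Wd C hN4 η A * (Pm C Θ μ * Pm C Θ (μ⁻¹ * σ))⁻¹ =
    Pm C Θ μ * (Pm C Θ (μ⁻¹ * σ) * Wd C hN4 η A * (Pm C Θ (μ⁻¹ * σ))⁻¹) * (Pm C Θ μ)⁻¹ by group,
    (fix_four D _ hfix A).eq, mul_inv_cancel_right, map_mul, map_mul, map_inv, ← agree0 D]

theorem conj_three {σ σ' : Perm (Fin N)} (h : ∀ i : Fin N, i.val < 3 → σ i = σ' i) (B : ↥(Cfsg.SU 3 F 2)) :
    Pm C Θ σ * Wd C (show 4 ≤ N by omega) η (embW C 4 3 0 (by norm_num) B) * (Pm C Θ σ)⁻¹ =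
      Pm C Θ σ' * Wd C (show 4 ≤ N by omega) η (embW C 4 3 0 (by norm_num) B) * (Pm C Θ σ')⁻¹ := by
  have hc := (fix_three D (σ'⁻¹ * σ) (fun i hi => by rw [Perm.mul_apply, h i hi]; exact σ'.symm_apply_apply i) B).eq
  set W := Wd C (show 4 ≤ N by omega) η (embW C 4 3 0 (by norm_num) B)
  rw [map_mul, map_inv] at hc
  calc Pm C Θ σ * W * (Pm C Θ σ)⁻¹ = Pm C Θ σ' * ((Pm C Θ σ')⁻¹ * Pm C Θ σ * W) * (Pm C Θ σ)⁻¹ := by group
    _ = _ := by rw [hc]; group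

theorem wd_three_fst (σ : Perm (Fin N)) (B : ↥(Cfsg.SU 3 F 2)) :
    (Pm C Θ σ * Wd C (show 4 ≤ N by omega) η (embW C 4 3 0 (by norm_num) B) * (Pm C Θ σ)⁻¹).1 =
      emb C (σ ∘ win 3 0 (show 0 + 3 ≤ N by omega)) (σ.injective.comp win_inj) B := by
  show ps C σ * embW C N 4 0 _ (embW C 4 3 0 _ B) * (ps C σ)⁻¹ = _
  rw [emb_comp, ps_conj_emb]
  exact emb_congr (funext fun a => congrArg σ (Fin.ext (by simp [win]))) B

theorem three_commute (h6 : 5 < N) : ∃ σ : Perm (Fin N), (∀ k : Fin N, k.val < 3 → (σ k).val = k.val + 3) ∧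
    ∀ B B' : ↥(Cfsg.SU 3 F 2), Commute
      (Pm C Θ σ * Wd C (show 4 ≤ N by omega) η (embW C 4 3 0 (by norm_num) B) * (Pm C Θ σ)⁻¹)
      (Wd C (show 4 ≤ N by omega) η (embW C 4 3 0 (by norm_num) B')) := by
  obtain ⟨σ, hσ, hc⟩ := D.six h6
  refine ⟨σ, hσ, fun B B' => Prod.ext ?_ ?_⟩
  · show (Pm C Θ σ * _ * _).1 * embW C N 4 0 _ (embW C 4 3 0 _ B') = embW C N 4 0 _ (embW C 4 3 0 _ B') * (Pm C Θ σ * _ * _).1
    rw [wd_three_fst D, embW_comp]
    refine emb_commute (fun a b e => ?_) _ _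
    have h1 := congrArg Fin.val e
    have h2 := hσ (win 3 0 (show 0 + 3 ≤ N by omega) a) (by simp [win])
    simp [win] at h1 h2
    omega
  · have m : ∀ X, embW C 4 3 0 (by norm_num) X ∈ fixFrom (F := F) (q := 2) (n := 4) 3 := fun X =>
      embW_zero_range (C := C) (i := 0) (h := (by norm_num : 0 + 3 ≤ 4)) ▸ ⟨X, rfl⟩
    exact (hc _ (m B) _ (m B')).eq

end Data

end CfsgLib.Phan.Two
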