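import Cfsg.Agent.Lib.Phan.Two.Glue

/-!
# The closed paths in six coordinates and the conclusion
-/

set_option autoImplicit false
set_option linter.all false
set_option maxHeartbeats 2000000

namespace CfsgLib.Phan.Two

open Matrix Equiv CfsgLib.SU CfsgLib.Lie.BoundedPres CfsgLib.Lie.BoundedPres.SUBase
open CfsgLib.Lie.BoundedPres.SUGraph

universe u

variable {F : Type u} [Field F] [Fintype F] {C : UCtx F 2} {G : Type*} [Group G] {N : ℕ}

theorem exists_move_three (C : UCtx F 2) (v : Fin 3 → F) (hv : C.form v v = 1) :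
    ∃ B : ↥(Cfsg.SU 3 F 2), B.1.1 *ᵥ sv 2 = v := by
  obtain ⟨g, hg⟩ := exists_su_move_tuple (C := C) (t := ![sv (2 : Fin 3)]) (t' := ![v])
    (li_coord C fun i j => by fin_cases i; fin_cases j; simp [form_sv])
    (li_coord C fun i j => by fin_cases i; fin_cases j; simp [hv])
    (fun i j => by fin_cases i; fin_cases j; simp [form_sv, hv]) (w := sv (0 : Fin 3))
    (by rw [form_sv, if_pos rfl]) (fun i => by fin_cases i; simp [form_sv])
  exact ⟨g, hg 0⟩

theorem pad_add {m : ℕ} (x y : Fin m → F) : (pad (x + y) : Fin N → F) = pad x + pad y := by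
  funext i; simp only [pad, Pi.add_apply]; split_ifs <;> simp

theorem pad_smul {m : ℕ} (c : F) (x : Fin m → F) : (pad (c • x) : Fin N → F) = c • pad x := by
  funext i; simp only [pad, Pi.smul_apply]; split_ifs <;> simp

namespace Data

variable {hN : 5 ≤ N} {Θ : Perm (Fin N) →* G} {η : ↥(Cfsg.SU 4 F 2) →* G} (D : Data C hN Θ η)
include D

/-- the paths, in the product -/
theorem six_paths (h6 : 5 < N) (P : F) (hP : P ≠ 0) :
    let H := Subgroup.closure ((Wd C (show 4 ≤ N by omega) η).range ∪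
      {Pm C Θ (topCyc (k := 4) (show 4 < N by omega) le_rfl).1} : Set (↥(Cfsg.SU N F 2) × G))
    let r := Pm C Θ (topCyc (k := 5) h6 (by norm_num)).1
    ∃ h1 ∈ H, ∃ h2 ∈ H, ∃ g1 ∈ H, ∃ g2 ∈ H,
      (h1 * r).1.1.1 *ᵥ pad (sv (5 : Fin 6)) = pad (sv (2 : Fin 6)) ∧
      (h1 * r * h2 * r).1.1.1 *ᵥ pad (sv (5 : Fin 6)) = pad (xSix (F := F)) ∧
      (g1 * r).1.1.1 *ᵥ pad (sv (5 : Fin 6)) = pad (repSix P) ∧
      (g1 * r * g2 * r).1.1.1 *ᵥ pad (sv (5 : Fin 6)) = pad (xSix (F := F)) ∧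
      (h1 * r * h2 * r)⁻¹ * (g1 * r * g2 * r) ∈ H := by
  classical
  intro H r
  have h4 : 4 ≤ N := by omega
  have h6' : 6 ≤ N := h6
  let V : Perm (Fin 6) →* Perm (Fin N) := Perm.viaEmbeddingHom (Fin.castLEEmb h6')
  have hV : ∀ (σ : Perm (Fin 6)) (i : Fin 6), V σ (Fin.castLE h6' i) = Fin.castLE h6' (σ i) := fun σ i =>
    Perm.viaEmbedding_apply σ (Fin.castLEEmb h6') i
  let φ := (Pm C Θ).comp V
  set a1 : Perm (Fin 6) := swap 0 1 * swap 2 3 with ha1
  set b1 : Perm (Fin 6) := swap 0 2 * swap 1 3 with hb1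
  set R4 : Perm (Fin 6) := swap 4 3 * swap 3 2 with hR4
  set R : Perm (Fin 6) := swap 5 4 * swap 4 3 with hR
  set q1 : Perm (Fin 6) := swap 0 1 * swap 4 2 with hq1
  set q2 : Perm (Fin 6) := swap 0 1 * swap 3 4 with hq2
  set q3 : Perm (Fin 6) := swap 0 3 * swap 1 4 with hq3
  have hrR : r = φ R := by
    refine congrArg (Pm C Θ) ?_
    show swap (pt 5 h6) (pt 4 (by omega)) * swap (pt 4 (by omega)) (pt 3 (by omega)) = V R
    simp only [V, hR, map_mul, via_six]
    rfl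
  have hW : ∀ A, Wd C h4 η A ∈ H := fun A => Subgroup.subset_closure (Or.inl ⟨A, rfl⟩)
  have hR4m : φ R4 ∈ H := by
    refine Subgroup.subset_closure (Or.inr ?_)
    show Pm C Θ (V R4) = Pm C Θ (topCyc (k := 4) (show 4 < N by omega) le_rfl).1
    refine congrArg (Pm C Θ) ?_
    show V R4 = swap (pt 4 (by omega)) (pt 3 (by omega)) * swap (pt 3 (by omega)) (pt 2 (by omega))
    simp only [V, hR4, map_mul, via_six]
    rfl
  have low : ∀ a b c d : Fin 4, φ (swap (Fin.castLE (by norm_num) a) (Fin.castLE (by norm_num) b) *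
      swap (Fin.castLE (by norm_num) c) (Fin.castLE (by norm_num) d)) ∈ H := by
    intro a b c d
    have e : φ (swap (Fin.castLE (by norm_num) a) (Fin.castLE (by norm_num) b) *
        swap (Fin.castLE (by norm_num) c) (Fin.castLE (by norm_num) d)) =
        Pm C Θ (Perm.viaEmbedding (swap a b * swap c d) ⟨four h4, four_inj h4⟩) := by
      refine congrArg (Pm C Θ) ?_
      show V _ = _
      simp only [← Perm.viaEmbeddingHom_apply, map_mul, V, via_six]
      rw [Perm.viaEmbeddingHom_apply, Perm.viaEmbeddingHom_apply, via_swap, via_swap]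
      rfl
    rw [e, agree0 D]; exact hW _
  have ha1m : φ a1 ∈ H := low 0 1 2 3
  have hb1m : φ b1 ∈ H := low 0 2 1 3
  have hq1m : φ q1 ∈ H := by
    rw [show q1 = R4 * a1 * R4⁻¹ by decide, map_mul φ, map_mul φ, map_inv φ]
    exact mul_mem (mul_mem hR4m ha1m) (inv_mem hR4m)
  have hq2m : φ q2 ∈ H := by
    rw [show q2 = R4⁻¹ * a1 * R4 by decide, map_mul φ, map_mul φ, map_inv φ]
    exact mul_mem (mul_mem (inv_mem hR4m) ha1m) hR4m
  have hq3m : φ q3 ∈ H := by
    rw [show q3 = R4⁻¹ * b1 * R4 by decide, map_mul φ, map_mul φ, map_inv φ]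
    exact mul_mem (mul_mem (inv_mem hR4m) hb1m) hR4m
  -- the two blocks of three coordinates
  have h2 : (2 : F) = 0 := two_zero C
  have hP1 : P * C.bar P = 1 := SixClosed.norm_one (fixed C) hP
  obtain ⟨B, hB⟩ := exists_move_three C (sv 0 + (sv 1 + sv 2)) (by
    simp [UCtx.form, sv, Fin.sum_univ_three, Pi.single_apply]
    linear_combination h2)
  obtain ⟨B', hB'⟩ := exists_move_three C (sv 0 + (P • sv 1 + sv 2)) (by
    simp [UCtx.form, sv, Fin.sum_univ_three, Pi.single_apply]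
    linear_combination h2 + hP1)
  obtain ⟨σ, hσ, hcom⟩ := three_commute D h6
  let M : Perm (Fin N) → ↥(Cfsg.SU 3 F 2) → ↥(Cfsg.SU N F 2) × G := fun p Z =>
    Pm C Θ p * Wd C h4 η (embW C 4 3 0 (by norm_num) Z) * (Pm C Θ p)⁻¹
  have hM : ∀ p ∈ ({a1, q3} : Set (Perm (Fin 6))), ∀ Z, M (V p) Z ∈ H := by
    intro p hp Z
    refine mul_mem (mul_mem ?_ (hW _)) (inv_mem ?_) <;> rcases hp with rfl | rfl <;> assumption
  set τ : Perm (Fin N) := swap (pt 2 (by omega)) (pt 5 h6) with hτ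
  set X := M τ B with hXdef
  set Y := M (τ * σ) B' with hYdef
  have hτV : τ = V (swap 2 5) := (via_six h6' 2 5).symm
  have hY3 : Y = M (V q3) B' := by
    refine conj_three D (fun i hi => Fin.ext ?_) B'
    have h1 : ∃ k : Fin 3, i = Fin.castLE h6' (Fin.castLE (by norm_num) k) := ⟨⟨i.val, hi⟩, Fin.ext rfl⟩
    obtain ⟨k, rfl⟩ := h1
    rw [hV, Perm.mul_apply, show σ (Fin.castLE h6' (Fin.castLE (by norm_num) k)) =
      Fin.castLE h6' ⟨k.val + 3, by omega⟩ from Fin.ext (hσ _ hi), hτV, hV]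
    have key : ∀ j : Fin 3, swap (2 : Fin 6) 5 ⟨j.val + 3, by omega⟩ = q3 (Fin.castLE (by norm_num) j) := by
      intro j; fin_cases j <;> rfl
    rw [key k]
  have hXY : X * Y = Y * X := by
    have h := ((hcom B' B).symm).map (MulAut.conj (Pm C Θ τ)).toMonoidHom
    simp only [MulEquiv.coe_toMonoidHom, MulAut.conj_apply] at h
    have eY : Y = Pm C Θ τ * (Pm C Θ σ * Wd C h4 η (embW C 4 3 0 (by norm_num) B') * (Pm C Θ σ)⁻¹) * (Pm C Θ τ)⁻¹ := by
      simp only [hYdef, M, map_mul (Pm C Θ)]; group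
    rw [eY]
    exact h.eq
  have hh0 : (φ (q1 * R))⁻¹ * X * φ (q1 * R) = M (V a1) B := by
    have e : (φ (q1 * R))⁻¹ * X * φ (q1 * R) = M ((V (q1 * R))⁻¹ * τ) B := by
      simp only [hXdef, M, φ, MonoidHom.comp_apply, map_mul (Pm C Θ), map_inv]
      group
    rw [e]
    refine conj_three D (fun i hi => ?_) B
    obtain ⟨k, rfl⟩ : ∃ k : Fin 3, i = Fin.castLE h6' (Fin.castLE (by norm_num) k) := ⟨⟨i.val, hi⟩, Fin.ext rfl⟩
    rw [hτV, ← map_inv, ← map_mul, hV, hV]
    refine congrArg (Fin.castLE h6') ?_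
    have key : ∀ k : Fin 3, ((q1 * R)⁻¹ * swap (2 : Fin 6) 5 : Perm (Fin 6)) (Fin.castLE (by norm_num : 3 ≤ 6) k) = a1 (Fin.castLE (by norm_num : 3 ≤ 6) k) := by
      rw [hq1, hR, ha1]; decide
    exact key k
  set h0 := M (V a1) B with hh0def
  have hh0m : h0 ∈ H := hM a1 (Or.inl rfl) B
  have hYm : Y ∈ H := hY3 ▸ hM q3 (Or.inr rfl) B'
  have hbase : q1 * R * (q2 * R) = q1 * R * (R⁻¹ * q2) := by decide
  have e1 : φ q1 * r * (h0 * φ q2) * r = X * φ (q1 * q2) := by
    rw [← hh0, hrR]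
    calc φ q1 * φ R * ((φ (q1 * R))⁻¹ * X * φ (q1 * R) * φ q2) * φ R = X * φ (q1 * R * (q2 * R)) := by
          simp only [map_mul]; group
      _ = _ := by
          rw [hbase]
          congr 2
          group
  have e2 : Y * φ q1 * r * (h0 * φ q2) * r = X * Y * φ (q1 * q2) := by
    rw [show Y * φ q1 * r * (h0 * φ q2) * r = Y * (φ q1 * r * (h0 * φ q2) * r) by simp only [mul_assoc], e1, ← mul_assoc, hXY]
  refine ⟨φ q1, hq1m, h0 * φ q2, mul_mem hh0m hq2m, Y * φ q1, mul_mem hYm hq1m, h0 * φ q2, mul_mem hh0m hq2m,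
    ?_, ?_, ?_, ?_, ?_⟩
  all_goals (try rw [e1]); (try rw [e2])
  rotate_left 4
  · rw [show (X * φ (q1 * q2))⁻¹ * (X * Y * φ (q1 * q2)) = (φ (q1 * q2))⁻¹ * Y * φ (q1 * q2) by group]
    have : φ (q1 * q2) ∈ H := by rw [map_mul φ]; exact mul_mem hq1m hq2m
    exact mul_mem (mul_mem (inv_mem this) hYm) this
  all_goals
    have psV : ∀ (p : Perm (Fin 6)) (i : Fin 6),
        (φ p).1.1.1 *ᵥ sv (Fin.castLE h6' i) = sv (Fin.castLE h6' (p i)) := fun p i => by
      show (ps C (V p)).1.1 *ᵥ sv _ = _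
      rw [ps_sv, hV]
    have pe : ∀ i : Fin 6, (pad (sv i) : Fin N → F) = sv (Fin.castLE h6' i) := fun i => pad_sv h6' i
    have hcol : ∀ (p : Perm (Fin N)) (Z : ↥(Cfsg.SU 3 F 2)),
        (M p Z).1.1.1 *ᵥ sv (p (pt 2 (by omega))) = inc F (p ∘ win 3 0 (show 0 + 3 ≤ N by omega)) *ᵥ (Z.1.1 *ᵥ sv 2) := by
      intro p Z
      rw [wd_three_fst D]
      exact emb_sv (f := p ∘ win 3 0 (show 0 + 3 ≤ N by omega)) Z 2
    have hX5 : X.1.1.1 *ᵥ sv (Fin.castLE h6' 5) = pad (xSix (F := F)) := by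
      have h := hcol τ B
      rw [show τ (pt 2 (by omega)) = Fin.castLE h6' 5 from swap_apply_left _ _, hB] at h
      rw [hXdef, h]
      simp only [xSix, pad_add, pe, Matrix.mulVec_add, inc_mulVec_sv]
      have k0 : (τ ∘ win 3 0 (show 0 + 3 ≤ N by omega)) 0 = Fin.castLE h6' 0 := by
        show τ (win 3 0 _ 0) = _
        rw [show win 3 0 (show 0 + 3 ≤ N by omega) 0 = Fin.castLE h6' 0 from Fin.ext (by simp [win]), hτV, hV]
        rfl
      have k1 : (τ ∘ win 3 0 (show 0 + 3 ≤ N by omega)) 1 = Fin.castLE h6' 1 := by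
        show τ (win 3 0 _ 1) = _
        rw [show win 3 0 (show 0 + 3 ≤ N by omega) 1 = Fin.castLE h6' 1 from Fin.ext (by simp [win]), hτV, hV]
        rfl
      have k2 : (τ ∘ win 3 0 (show 0 + 3 ≤ N by omega)) 2 = Fin.castLE h6' 5 := by
        show τ (win 3 0 _ 2) = _
        rw [show win 3 0 (show 0 + 3 ≤ N by omega) 2 = Fin.castLE h6' 2 from Fin.ext (by simp [win]), hτV, hV]
        rfl
      rw [k0, k1, k2]; abel
    have hY2 : Y.1.1.1 *ᵥ sv (Fin.castLE h6' 2) = pad (repSix P) := by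
      have h := hcol (V q3) B'
      rw [show pt 2 (show 2 < N by omega) = Fin.castLE h6' 2 from rfl, hV, show q3 2 = 2 by rw [hq3]; decide, hB'] at h
      rw [hY3, h]
      simp only [repSix, pad_add, pad_smul, pe, Matrix.mulVec_add, Matrix.mulVec_smul, inc_mulVec_sv]
      have kk : ∀ k : Fin 3, (V q3 ∘ win 3 0 (show 0 + 3 ≤ N by omega)) k =
          Fin.castLE h6' (q3 (Fin.castLE (by norm_num) k)) := fun k => by
        show V q3 (win 3 0 _ k) = _
        rw [show win 3 0 (show 0 + 3 ≤ N by omega) k = Fin.castLE h6' (Fin.castLE (by norm_num) k) from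
          Fin.ext (by simp [win]), hV]
      rw [kk, kk, kk, show q3 (Fin.castLE (by norm_num) (0 : Fin 3)) = 3 by rw [hq3]; decide,
        show q3 (Fin.castLE (by norm_num) (1 : Fin 3)) = 4 by rw [hq3]; decide,
        show q3 (Fin.castLE (by norm_num) (2 : Fin 3)) = 2 by rw [hq3]; decide]
      abel
    have h12 : (φ (q1 * q2)).1.1.1 *ᵥ sv (Fin.castLE h6' 5) = sv (Fin.castLE h6' 5) := by
      rw [psV, show (q1 * q2) 5 = 5 by rw [hq1, hq2]; decide]
  · rw [pe, pe, hrR, ← map_mul, psV, show (q1 * R) 5 = 2 by rw [hq1, hR]; decide]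
  · rw [pe, Prod.fst_mul, suMat_mulVec_mul, h12, hX5]
  · rw [pe, hrR, mul_assoc, ← map_mul, Prod.fst_mul, suMat_mulVec_mul, psV,
      show (q1 * R) 5 = 2 by rw [hq1, hR]; decide, hY2]
  · rw [pe, Prod.fst_mul, Prod.fst_mul, suMat_mulVec_mul, suMat_mulVec_mul, h12]
    -- the second block fixes the last of the six coordinates
    rw [show Y.1.1.1 *ᵥ sv (Fin.castLE h6' 5) = sv (Fin.castLE h6' 5) from ?_, hX5]
    rw [hY3, wd_three_fst D]
    refine emb_fix _ fun j e => ?_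
    have h1 : V q3 (Fin.castLE h6' (Fin.castLE (by norm_num) j)) = Fin.castLE h6' 5 := by
      rw [← e]; exact congrArg (V q3) (Fin.ext (by simp [win]))
    rw [hV] at h1
    have key : ∀ j : Fin 3, q3 (Fin.castLE (by norm_num) j) ≠ (5 : Fin 6) := by rw [hq3]; decide
    exact key j (Fin.castLE_injective h6' h1)

/-- the whole group -/
theorem exists_hom (hF : Fintype.card F = 4) :
    ∃ f : ↥(Cfsg.SU N F 2) →* G, Θ.range ≤ f.range ∧ η.range ≤ f.range := by
  classical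
  have h4 : 4 ≤ N := by omega
  let Γ : Subgroup (↥(Cfsg.SU N F 2) × G) := Subgroup.closure
    (Set.range (fun σ : alternatingGroup (Fin N) => Pm C Θ σ.1) ∪ Set.range (Wd C h4 η))
  let ρ : alternatingGroup (Fin N) →* ↥Γ := ((Pm C Θ).comp (alternatingGroup (Fin N)).subtype).codRestrict Γ
    fun σ => Subgroup.subset_closure (Or.inl ⟨σ, rfl⟩)
  let ψ : ↥(Cfsg.SU 4 F 2) →* ↥Γ := (Wd C h4 η).codRestrict Γ fun A => Subgroup.subset_closure (Or.inr ⟨A, rfl⟩)
  let π : ↥Γ →* ↥(Cfsg.SU N F 2) := (MonoidHom.fst _ _).comp Γ.subtype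
  let ι : ↥(Cfsg.SU 4 F 2) →* ↥(Cfsg.SU N F 2) := embW C N 4 0 (by omega)
  have g : GlueTwo C hN π ι ρ ψ := by
    refine ⟨fixed C, emb_injective, embW_zero_range (i := 0), fun σ => (pA_eq σ).symm, fun A => rfl, fun τ => ?_,
      fun σ hσ A => ?_, fun A hA => ?_⟩
    · refine Subtype.ext ?_
      show Pm C Θ (alt4 h4 τ).1 = Wd C h4 η (pA C τ)
      rw [pA_eq, ← agree0 D]
      rfl
    · obtain ⟨B, hB⟩ := stab0 D σ.1 hσ A
      exact ⟨B, Subtype.ext hB.symm⟩
    · have hA3 : A ∈ fixFrom (F := F) (q := 2) (n := 4) 3 := by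
        intro i hi
        have h := hA (four h4 i) hi
        change (embW C N 4 0 (by omega) A).1.1 *ᵥ sv (four h4 i) = _ at h
        rw [show four h4 i = win 4 0 (show 0 + 4 ≤ N by omega) i from Fin.ext (by simp [four, win]), emb_sv,
          ← inc_mulVec_sv] at h
        have h' := congrArg (fun y => (inc F (win 4 0 (show 0 + 4 ≤ N by omega)))ᵀ *ᵥ y) h
        simpa [Matrix.mulVec_mulVec, ← Matrix.mul_assoc, inc_tr_inc win_inj] using h'
      rw [← embW_zero_range (C := C) (i := 0) (h := (by norm_num : 0 + 3 ≤ 4))] at hA3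
      obtain ⟨B, rfl⟩ := hA3
      set r4 : Perm (Fin N) := (topCyc (k := 4) (show 4 < N by omega) le_rfl).1
      let s34 : Perm (Fin N) := swap (pt 4 (by omega)) (pt 3 (by omega))
      let s23 : Perm (Fin N) := swap (pt 3 (by omega)) (pt 2 (by omega))
      have hr : r4 = s34 * s23 := rfl
      have hs34 := fix_three D s34 (fun i hi => swap_apply_of_ne_of_ne (by simp [Fin.ext_iff]; omega)
        (by simp [Fin.ext_iff]; omega)) B
      obtain ⟨B2, hB2⟩ := stab0 D s23 (fun i hi => by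
        simp only [s23, swap_apply_def]
        split_ifs <;> simp [hi]) (embW C 4 3 0 (by norm_num) B)
      refine ⟨B2, Subtype.ext ?_⟩
      show Wd C h4 η B2 = (Pm C Θ r4)⁻¹ * Wd C h4 η (embW C 4 3 0 (by norm_num) B) * Pm C Θ r4
      rw [← hB2, hr, map_mul, _root_.mul_inv_rev]
      have i34 : (Pm C Θ s34)⁻¹ = Pm C Θ s34 := by rw [← map_inv, swap_inv]
      have i23 : (Pm C Θ s23)⁻¹ = Pm C Θ s23 := by rw [← map_inv, swap_inv]
      rw [i23, show Pm C Θ s23 * (Pm C Θ s34)⁻¹ * Wd C h4 η (embW C 4 3 0 (by norm_num) B) * (Pm C Θ s34 * Pm C Θ s23) =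
        Pm C Θ s23 * ((Pm C Θ s34)⁻¹ * (Wd C h4 η (embW C 4 3 0 (by norm_num) B) * Pm C Θ s34)) * Pm C Θ s23 by group,
        ← hs34.eq, inv_mul_cancel_left]
  have hgen : Subgroup.closure (Set.range ρ ∪ Set.range ψ) = ⊤ := by
    refine Subgroup.map_injective (f := Γ.subtype) Γ.subtype_injective ?_
    rw [MonoidHom.map_closure, ← MonoidHom.range_eq_map, Subgroup.range_subtype, Set.image_union, ← Set.range_comp,
      ← Set.range_comp]
    rfl
  have six : ∀ h : 5 < N, SixLinks π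
      (Subgroup.closure ((ψ.range : Set ↥Γ) ∪ {ρ (topCyc (k := 4) (show 4 < N by omega) le_rfl)}))
      (ρ (topCyc (k := 5) h (by norm_num))) := by
    intro h P hP
    obtain ⟨h1, m1, h2, m2, g1, n1, g2, n2, e1, e2, e3, e4, e5⟩ := six_paths D h P hP
    set H := Subgroup.closure ((ψ.range : Set ↥Γ) ∪ {ρ (topCyc (k := 4) (show 4 < N by omega) le_rfl)}) with hH
    have hmap : H.map Γ.subtype = Subgroup.closure ((Wd C h4 η).range ∪
        {Pm C Θ (topCyc (k := 4) (show 4 < N by omega) le_rfl).1} : Set (↥(Cfsg.SU N F 2) × G)) := by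
      rw [hH, MonoidHom.map_closure, Set.image_union, Set.image_singleton, MonoidHom.coe_range, MonoidHom.coe_range,
        ← Set.range_comp]
      rfl
    rw [← hmap] at m1 m2 n1 n2 e5
    obtain ⟨a1, ha1, rfl⟩ := m1
    obtain ⟨a2, ha2, rfl⟩ := m2
    obtain ⟨b1, hb1, rfl⟩ := n1
    obtain ⟨b2, hb2, rfl⟩ := n2
    obtain ⟨d, hd, ed⟩ := e5
    refine ⟨a1, ha1, a2, ha2, b1, hb1, b2, hb2, e1, e2, e3, e4, ?_⟩
    have key : ∀ x : ↥Γ, x.1 = d.1 → x ∈ H := fun x hx => Subtype.ext hx ▸ hd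
    exact key _ ed.symm
  have hbij := g.bijective hgen six
  let f : ↥(Cfsg.SU N F 2) →* G :=
    ((MonoidHom.snd _ _).comp Γ.subtype).comp (MulEquiv.ofBijective π hbij).symm.toMonoidHom
  have hf : ∀ x : ↥Γ, f (π x) = x.1.2 := fun x => by
    show ((MulEquiv.ofBijective π hbij).symm (π x)).1.2 = x.1.2
    rw [show π x = (MulEquiv.ofBijective π hbij) x from rfl, MulEquiv.symm_apply_apply]
  have hη : η.range ≤ f.range := by
    rintro _ ⟨A, rfl⟩
    exact ⟨π (ψ A), hf _⟩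
  refine ⟨f, ?_, hη⟩
  rintro _ ⟨σ, rfl⟩
  have even : ∀ σ : Perm (Fin N), Perm.sign σ = 1 → Θ σ ∈ f.range := fun σ h => ⟨π (ρ ⟨σ, h⟩), hf _⟩
  rcases Int.units_eq_one_or (Perm.sign σ) with h | h
  · exact even σ h
  · set s := swap (four h4 0) (four h4 1)
    have hs : Θ s ∈ f.range := by
      have h' := D.agree (swap 0 1)
      rw [via_swap] at h'
      exact hη ⟨_, h'.symm⟩
    have := mul_mem (even (σ * s) (by
      rw [map_mul, h, Perm.sign_swap (fun e => absurd (four_inj h4 e) (by decide))]; rfl)) hs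
    rwa [← map_mul, mul_assoc, Equiv.swap_mul_self, mul_one] at this

end Data

end CfsgLib.Phan.Two
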