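import Cfsg.Agent.Lib.Phan.Two.Window
import Cfsg.Agent.Lib.Phan.Two.Six
import Cfsg.Agent.Lib.Phan.Weak
import Cfsg.Agent.Lib.Perm.Groups.CoxeterSym

/-!
# Weak systems over the field with four elements
-/

set_option autoImplicit false
set_option linter.all false
set_option maxHeartbeats 1000000

namespace CfsgLib.Phan.Two

open Matrix Equiv CfsgLib.SU CfsgLib.Lie.BoundedPres CfsgLib.Lie.BoundedPres.SUBase
open CfsgLib.Lie.BoundedPres.SUGraph

universe u

variable {F : Type u} [Field F] [Fintype F] {C : UCtx F 2} {G : Type*} [Group G] {n : ℕ}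

theorem hom_eq_of_swaps {m : ℕ} {H : Type*} [Group H] (f g : Perm (Fin (m + 1)) →* H)
    (h : ∀ i : Fin m, f (swap i.castSucc i.succ) = g (swap i.castSucc i.succ)) : f = g :=
  MonoidHom.ext fun x => by
    have hle : (⊤ : Submonoid (Perm (Fin (m + 1)))) ≤ (f.eqLocus g).toSubmonoid := by
      rw [← Equiv.Perm.mclosure_swap_castSucc_succ, Submonoid.closure_le]
      rintro _ ⟨i, rfl⟩
      exact h i
    exact hle (Submonoid.mem_top x)

/-- four consecutive points -/
def quad (i : ℕ) (h : i + 4 ≤ n) : Fin 4 ↪ Fin n := ⟨win 4 i h, win_inj⟩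

theorem Chain.hom {U : ℕ → Subgroup G} {t s : ℕ → G} {φ : ℕ → ↥(Cfsg.SU 3 F 2) →* G}
    (H : Chain C n U t s φ) (hF : Fintype.card F = 4) (hn : 4 ≤ n) :
    ∃ f : ↥(Cfsg.SU (n + 1) F 2) →* G, ∀ j, j + 1 < n → (φ j).range ≤ f.range := by
  classical
  have hw := fun (i : ℕ) (hi : i + 2 < n) => Chain.exists_window H hF hi
  have braid : ∀ j, j + 1 < n → (s j * s (j + 1)) ^ 3 = 1 ∧ (s (j + 1) * s j) ^ 3 = 1 := by
    intro j hj
    have d01 : (swap (0 : Fin 4) 1 * swap 1 2) ^ 3 = 1 ∧ (swap (1 : Fin 4) 2 * swap 0 1) ^ 3 = 1 ∧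
        (swap (1 : Fin 4) 2 * swap 2 3) ^ 3 = 1 ∧ (swap (2 : Fin 4) 3 * swap 1 2) ^ 3 = 1 := by decide
    rcases Nat.lt_or_ge (j + 2) n with h | h
    · obtain ⟨η, e0, e1, -⟩ := hw j h
      rw [← e0, ← e1]
      simp only [← map_mul, ← map_pow, d01.1, d01.2.1, map_one, and_self]
    · obtain ⟨i, rfl⟩ : ∃ i, j = i + 1 := ⟨j - 1, by omega⟩
      obtain ⟨η, -, e1, e2, -⟩ := hw i (by omega)
      rw [← e1, show i + 1 + 1 = i + 2 from rfl, ← e2]
      simp only [← map_mul, ← map_pow, d01.2.2.1, d01.2.2.2, map_one, and_self]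
  have hlift : (CoxeterMatrix.A n).IsLiftable (fun j : Fin n => s j) := by
    intro a b
    simp only [CoxeterMatrix.A, Matrix.of_apply]
    split_ifs with h1 h2
    · subst h1; rw [pow_one]; exact H.ssq _ a.isLt
    · rcases h2 with h2 | h2
      · rw [← h2]; exact (braid b.val (by omega)).2
      · rw [← h2]; exact (braid a.val (by omega)).1
    · have hab : a.val + 2 ≤ b.val ∨ b.val + 2 ≤ a.val := by
        have : a.val ≠ b.val := fun e => h1 (Fin.ext e)
        omega
      have hc : s a.val * s b.val = s b.val * s a.val := by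
        rcases hab with h | h
        · exact H.comm _ _ h b.isLt _ (H.smem _ a.isLt) _ (H.smem _ b.isLt)
        · exact (H.comm _ _ h a.isLt _ (H.smem _ b.isLt) _ (H.smem _ a.isLt)).symm
      rw [(show Commute (s a.val) (s b.val) from hc).mul_pow, pow_two, pow_two, H.ssq _ a.isLt, H.ssq _ b.isLt,
        one_mul]
  obtain ⟨cs, hcs⟩ := CfsgLib.Perm.Groups.exists_coxeterSystem_sym n
  let Θ : Perm (Fin (n + 1)) →* G := cs.lift ⟨_, hlift⟩
  have hΘ : ∀ j (hj : j < n), Θ (swap (pt j (by omega)) (pt (j + 1) (by omega))) = s j := fun j hj => by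
    have := cs.lift_apply_simple hlift ⟨j, hj⟩
    rw [hcs] at this
    exact this
  have agree : ∀ i (hi : i + 2 < n) (η : ↥(Cfsg.SU 4 F 2) →* G), η (ps C (swap 0 1)) = s i →
      η (ps C (swap 1 2)) = s (i + 1) → η (ps C (swap 2 3)) = s (i + 2) →
      ∀ σ, Θ (Perm.viaEmbedding σ (quad (n := n + 1) i (by omega))) = η (ps C σ) := by
    intro i hi η e0 e1 e2 σ
    refine DFunLike.congr_fun (hom_eq_of_swaps (Θ.comp (Perm.viaEmbeddingHom (quad (n := n + 1) i (by omega))))
      (η.comp (ps C)) fun k => ?_) σ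
    show Θ (Perm.viaEmbedding _ _) = η (ps C _)
    rw [via_swap]
    fin_cases k
    · show _ = η (ps C (swap 0 1))
      rw [e0, ← hΘ i (by omega)]
      exact congrArg Θ (congrArg₂ swap (Fin.ext (by simp [quad, win])) (Fin.ext (by simp [quad, win])))
    · show _ = η (ps C (swap 1 2))
      rw [e1, ← hΘ (i + 1) (by omega)]
      exact congrArg Θ (congrArg₂ swap (Fin.ext (by simp [quad, win])) (Fin.ext (by simp [quad, win])))
    · show _ = η (ps C (swap 2 3))
      rw [e2, ← hΘ (i + 2) hi]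
      exact congrArg Θ (congrArg₂ swap (Fin.ext (by simp [quad, win])) (Fin.ext (by simp [quad, win])))
  have move : ∀ j, j + 1 < n → ∃ σ : Perm (Fin (n + 1)),
      (∀ k : Fin (n + 1), k.val < 3 → (σ k).val = k.val + j) ∧
      (φ 0).range.map (MulAut.conj (Θ σ)).toMonoidHom = (φ j).range := by
    intro j
    induction j with
    | zero =>
      intro _
      refine ⟨1, fun k _ => rfl, ?_⟩
      ext x
      simp
    | succ j ih =>
      intro hj
      obtain ⟨σ, hσ, hm⟩ := ih (by omega)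
      obtain ⟨η, e0, e1, e2, f0, f1, -⟩ := hw j (by omega)
      refine ⟨Perm.viaEmbedding shift (quad (n := n + 1) j (by omega)) * σ, fun k hk => ?_, ?_⟩
      · rw [Perm.mul_apply, show σ k = quad (n := n + 1) j (by omega) ⟨k.val, by omega⟩ from
          Fin.ext (by rw [hσ k hk]; simp [quad, win]; omega), Perm.viaEmbedding_apply]
        have key : ∀ l : Fin 3, (shift ⟨l.val, by omega⟩).val = l.val + 1 := by intro l; fin_cases l <;> rfl
        have := key ⟨k.val, hk⟩
        simp [quad, win] at this ⊢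
        omega
      · rw [map_mul, map_mul, agree j (by omega) η e0 e1 e2]
        rw [show ((MulAut.conj (η (ps C shift)) * MulAut.conj (Θ σ)) : MulAut G).toMonoidHom =
          (MulAut.conj (η (ps C shift))).toMonoidHom.comp (MulAut.conj (Θ σ)).toMonoidHom from rfl,
          ← Subgroup.map_map, hm, ← f1, ← f0, Subgroup.map_map, Subgroup.map_map]
        congr 1
        exact MonoidHom.ext fun X => by simp
  obtain ⟨η, e0, e1, e2, f0, -, hr⟩ := hw 0 (by omega)
  have far : ∀ j (hj : j < n) k, k + 1 < n → k + 3 ≤ j → ∀ x ∈ (φ k).range, Commute (s j) x :=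
    fun j hj k hk hkj x hx => H.farUV j k hj hk (Or.inr hkj) _ (H.smem j hj) x hx
  have D : Data C (show 5 ≤ n + 1 by omega) Θ η :=
    { agree := fun σ => by
        rw [← agree 0 (by omega) η e0 e1 e2 σ]
        congr 2
        exact Function.Embedding.ext fun i => Fin.ext (by simp [quad, win, four])
      high := fun j hj h X => by
        rw [hΘ j (by omega)]
        have hle : η.range ≤ Subgroup.centralizer ({s j} : Set G) := by
          rw [hr]
          refine sup_le ?_ ?_ <;> intro x hx <;> rw [Subgroup.mem_centralizer_singleton_iff]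
          · exact (far j (by omega) 0 (by omega) (by omega) x hx).eq.symm
          · exact (far j (by omega) 1 (by omega) (by omega) x hx).eq.symm
        exact (Subgroup.mem_centralizer_singleton_iff.1 (hle ⟨X, rfl⟩)).symm
      mid := fun j hj h X hX => by
        rw [hΘ j (by omega)]
        exact far j (by omega) 0 (by omega) (by omega) _ (f0 ▸ ⟨X, hX, rfl⟩)
      six := fun h => by
        obtain ⟨σ, hσ, hm⟩ := move 3 (by omega)
        refine ⟨σ, hσ, fun X hX Y hY => (H.farVV 0 3 le_rfl (by omega) _ (f0 ▸ ⟨Y, hY, rfl⟩) _ ?_).symm⟩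
        rw [← hm]
        exact ⟨η X, f0 ▸ ⟨X, hX, rfl⟩, rfl⟩ }
  obtain ⟨f, hΘf, hηf⟩ := D.exists_hom hF
  refine ⟨f, fun j hj => ?_⟩
  obtain ⟨σ, -, hm⟩ := move j hj
  rw [← hm]
  rintro _ ⟨x, hx, rfl⟩
  have hxf : x ∈ f.range := hηf (hr ▸ Subgroup.mem_sup_left hx)
  exact mul_mem (mul_mem (hΘf ⟨σ, rfl⟩) hxf) (inv_mem (hΘf ⟨σ, rfl⟩))

/-- recognition -/
theorem weak_two (hF : Fintype.card F = 4) (hn : 4 ≤ n) (U : Fin n → Subgroup G)
    (e : ∀ i, ↥(Cfsg.SU 2 F 2) ≃* ↥(U i)) (V : Fin n → Fin n → Subgroup G)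
    (h1 : ∀ i j : Fin n, (i : ℕ) + 2 ≤ j → ∀ x ∈ U i, ∀ y ∈ U j, x * y = y * x)
    (h2 : ∀ i j : Fin n, (i : ℕ) + 1 = j → Cfsg.IsStandardUnitaryPair (V i j) (U i) (U j) F 2)
    (hgen : (⨆ i, U i) ⊔ (⨆ (i : Fin n) (j : Fin n) (_ : (i : ℕ) + 1 = j), V i j) = ⊤)
    (h4 : ∀ i j k : Fin n, (i : ℕ) + 1 = j → (j : ℕ) + 1 = k →
      ∃ g : ↥(Cfsg.SU 4 F 2) →* ↥(V i j ⊔ V j k), Function.Surjective g)
    (h5 : ∀ i j k : Fin n, (j : ℕ) + 1 = k → ((i : ℕ) + 2 ≤ j ∨ (k : ℕ) + 2 ≤ i) →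
      ∀ x ∈ U i, ∀ y ∈ V j k, x * y = y * x)
    (h6 : ∀ i j k l : Fin n, (i : ℕ) + 1 = j → (k : ℕ) + 1 = l → (j : ℕ) + 2 ≤ k →
      ∀ x ∈ V i j, ∀ y ∈ V k l, x * y = y * x) :
    ∃ f : ↥(Cfsg.SU (n + 1) F 2) →* G, Function.Surjective f := by
  classical
  obtain ⟨C⟩ := CfsgLib.Classical.uctx_exists (F := F) (q := 2) (by rw [hF]; norm_num)
  obtain ⟨ω, hω⟩ := exists_unit_ne_one C
  let d : ↥(Cfsg.SU 2 F 2) := dg C (pairD (show (0 : Fin 2) ≠ 1 by decide) ω)
  let w : ↥(Cfsg.SU 2 F 2) := ps C (swap (0 : Fin 2) 1)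
  let U' : ℕ → Subgroup G := fun j => if h : j < n then U ⟨j, h⟩ else ⊥
  let t : ℕ → G := fun j => if h : j < n then (e ⟨j, h⟩ d : G) else 1
  let s : ℕ → G := fun j => if h : j < n then (e ⟨j, h⟩ w : G) else 1
  have hP : ∀ j : ℕ, ∃ φ : ↥(Cfsg.SU 3 F 2) →* G, ∀ h : j + 1 < n,
      Piece C φ (U ⟨j, by omega⟩) (U ⟨j + 1, h⟩) ∧ φ.range = V ⟨j, by omega⟩ ⟨j + 1, h⟩ := fun j => by
    by_cases h : j + 1 < n
    · obtain ⟨φ, hφ⟩ := exists_piece C (h2 ⟨j, by omega⟩ ⟨j + 1, h⟩ rfl)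
      exact ⟨φ, fun _ => hφ⟩
    · exact ⟨1, fun h' => absurd h' h⟩
  choose φ hφ using hP
  have eU : ∀ j (h : j < n), U' j = U ⟨j, h⟩ := fun j h => dif_pos h
  have et : ∀ j (h : j < n), t j = (e ⟨j, h⟩ d : G) := fun j h => dif_pos h
  have es : ∀ j (h : j < n), s j = (e ⟨j, h⟩ w : G) := fun j h => dif_pos h
  have val : ∀ j {x y : ↥(Cfsg.SU 2 F 2)}, x = y → ((e j x : ↥(U j)) : G) = e j y := fun j x y h => by rw [h]
  have hd1 : d ≠ 1 := fun h => hω (by
    have := dg_injective (h.trans (map_one _).symm)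
    rw [← pairD_left (show (0 : Fin 2) ≠ 1 by decide) ω, this]; rfl)
  have hw1 : w ≠ 1 := fun h => by
    have := ps_injective (C := C) (h.trans (map_one _).symm)
    exact absurd this (by decide)
  have H : Chain C n U' t s φ :=
    { comm := fun i j hij hj x hx y hy => by
        rw [eU i (by omega)] at hx
        rw [eU j hj] at hy
        exact h1 ⟨i, by omega⟩ ⟨j, hj⟩ hij x hx y hy
      piece := fun j hj => by rw [eU j (by omega), eU _ hj]; exact (hφ j hj).1
      tmem := fun j hj => by rw [eU j hj, et j hj]; exact (e ⟨j, hj⟩ d).2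
      tcube := fun j hj => by
        rw [et j hj, ← SubgroupClass.coe_pow, ← map_pow, show d ^ 3 = 1 by rw [← map_pow, diag_cube C, map_one],
          map_one, OneMemClass.coe_one]
      tne := fun j hj h => by
        rw [et j hj, OneMemClass.coe_eq_one, EmbeddingLike.map_eq_one_iff] at h
        exact hd1 h
      smem := fun j hj => by rw [eU j hj, es j hj]; exact (e ⟨j, hj⟩ w).2
      ssq := fun j hj => by
        rw [es j hj, ← Subgroup.coe_mul, ← map_mul, ← map_mul, Equiv.swap_mul_self, map_one, map_one,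
          OneMemClass.coe_one]
      sne := fun j hj h => by
        rw [es j hj, OneMemClass.coe_eq_one, EmbeddingLike.map_eq_one_iff] at h
        exact hw1 h
      sinv := fun j hj => by
        rw [es j hj, et j hj, ← Subgroup.coe_inv, ← Subgroup.coe_mul, ← Subgroup.coe_mul, ← map_inv, ← map_mul,
          ← map_mul]
        refine val _ ?_
        show ps C (swap (0 : Fin 2) 1) * dg C _ * ps C (swap (0 : Fin 2) 1) = (dg C _)⁻¹
        conv_lhs => arg 2; rw [← swap_inv, map_inv]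
        rw [ps_dg, ← map_inv]
        refine congrArg (dg C) (Subtype.ext (funext fun i => ?_))
        fin_cases i <;> simp [perD, pairD]
      window := fun i hi => by
        obtain ⟨g, hg⟩ := h4 ⟨i, by omega⟩ ⟨i + 1, by omega⟩ ⟨i + 2, hi⟩ rfl rfl
        refine ⟨(Subgroup.subtype _).comp g, ?_⟩
        rw [MonoidHom.range_comp, MonoidHom.range_eq_top.2 hg, ← MonoidHom.range_eq_map, Subgroup.range_subtype,
          (hφ i (by omega)).2, (hφ (i + 1) hi).2]
      farUV := fun i j hi hj hij x hx y hy => by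
        rw [eU i hi] at hx
        rw [(hφ j hj).2] at hy
        exact h5 ⟨i, hi⟩ ⟨j, by omega⟩ ⟨j + 1, hj⟩ rfl (by simp only; omega) x hx y hy
      farVV := fun i k hik hk x hx y hy => by
        rw [(hφ i (by omega)).2] at hx
        rw [(hφ k hk).2] at hy
        exact h6 ⟨i, by omega⟩ ⟨i + 1, by omega⟩ ⟨k, by omega⟩ ⟨k + 1, hk⟩ rfl rfl (by simp only; omega) x hx y hy }
  obtain ⟨f, hf⟩ := Chain.hom H hF hn
  refine ⟨f, MonoidHom.range_eq_top.1 (eq_top_iff.2 (hgen.ge.trans ?_))⟩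
  have left : ∀ j (hj : j + 1 < n), U ⟨j, by omega⟩ ≤ f.range ∧ U ⟨j + 1, hj⟩ ≤ f.range := fun j hj => by
    have P := (hφ j hj).1
    exact ⟨P.left ▸ (Subgroup.map_le_range _ _).trans (hf j hj), P.right ▸ (Subgroup.map_le_range _ _).trans (hf j hj)⟩
  refine sup_le (iSup_le fun i => ?_) (iSup_le fun i => iSup_le fun j => iSup_le fun h => ?_)
  · rcases Nat.lt_or_ge (i.val + 1) n with h | h
    · exact (left i.val h).1
    · obtain ⟨k, hk⟩ : ∃ k, i.val = k + 1 := ⟨i.val - 1, by omega⟩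
      have := (left k (by omega)).2
      rwa [show (⟨k + 1, by omega⟩ : Fin n) = i from Fin.ext hk.symm] at this
  · have hj : i.val + 1 < n := by omega
    rw [show j = ⟨i.val + 1, hj⟩ from Fin.ext h.symm, ← (hφ i.val hj).2]
    exact hf i.val hj

end CfsgLib.Phan.Two
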