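import Cfsg.Agent.Lib.Phan.Two.FrameMain
import Cfsg.Agent.Lib.Phan.Amalgam

/-!
# Diagonal elements and involutions of the rank two pieces
-/

set_option autoImplicit false
set_option linter.all false
set_option maxHeartbeats 1000000

namespace CfsgLib.Phan.Two

open Matrix Equiv CfsgLib.SU CfsgLib.Lie.BoundedPres.SUBase CfsgLib.Lie.BoundedPres.SUGraph

universe u

variable {F : Type u} [Field F] [Fintype F] {n : ℕ} {C : UCtx F 2}

theorem card_diag_three (hF : Fintype.card F = 4) : Nat.card ↥(Diag F 3) = 9 := by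
  let e : ↥(Diag F 3) ≃ Fˣ × Fˣ :=
    { toFun := fun v => (v.1 0, v.1 1)
      invFun := fun w => ⟨![w.1, w.2, (w.1 * w.2)⁻¹], by
        show ∏ i, (![w.1, w.2, (w.1 * w.2)⁻¹] : Fin 3 → Fˣ) i = 1
        simp [Fin.prod_univ_three]⟩
      left_inv := fun v => Subtype.ext (by
        have h : ∏ i, v.1 i = 1 := v.2
        rw [Fin.prod_univ_three] at h
        funext i
        fin_cases i
        exacts [rfl, rfl, inv_eq_of_mul_eq_one_right h])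
      right_inv := fun w => rfl }
  rw [Nat.card_congr e, Nat.card_prod, card_units hF]

theorem two_units (hF : Fintype.card F = 4) (C : UCtx F 2) {x : Fˣ} (hx : x ≠ 1) (y : Fˣ) :
    y = 1 ∨ y = x ∨ y = x⁻¹ := by
  obtain ⟨k, rfl⟩ := eq_pow_of_ne_one hF hx y
  rw [← Nat.mod_add_div k 3, pow_add, pow_mul, unit_cube C, one_pow, mul_one]
  have : k % 3 < 3 := Nat.mod_lt _ (by norm_num)
  interval_cases k % 3
  · exact Or.inl (pow_zero _)
  · exact Or.inr (Or.inl (pow_one _))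
  · refine Or.inr (Or.inr (eq_inv_of_mul_eq_one_left ?_))
    rw [← pow_succ]; exact unit_cube C x

/-- the diagonal elements of the two blocks -/
def d0 (x : Fˣ) : ↥(Diag F 3) := pairD (show (0 : Fin 3) ≠ 1 by decide) x

def d1 (x : Fˣ) : ↥(Diag F 3) := pairD (show (1 : Fin 3) ≠ 2 by decide) x

theorem d0_val (x : Fˣ) : (d0 x).1 0 = x ∧ (d0 x).1 1 = x⁻¹ ∧ (d0 x).1 2 = 1 := by
  refine ⟨pairD_left _ x, pairD_right _ x, ?_⟩
  simp [d0, pairD, Pi.mulSingle_apply]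

theorem d1_val (x : Fˣ) : (d1 x).1 0 = 1 ∧ (d1 x).1 1 = x ∧ (d1 x).1 2 = x⁻¹ := by
  refine ⟨?_, pairD_left _ x, pairD_right _ x⟩
  simp [d1, pairD, Pi.mulSingle_apply]

theorem d0_eq_one {x : Fˣ} : d0 x = 1 ↔ x = 1 :=
  ⟨fun h => (d0_val x).1 ▸ congrArg (fun w : ↥(Diag F 3) => w.1 0) h, fun h => by
    subst h; exact Subtype.ext (funext fun i => by fin_cases i <;> simp [d0, pairD])⟩

theorem d1_eq_one {x : Fˣ} : d1 x = 1 ↔ x = 1 :=
  ⟨fun h => (d1_val x).2.1 ▸ congrArg (fun w : ↥(Diag F 3) => w.1 1) h, fun h => by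
    subst h; exact Subtype.ext (funext fun i => by fin_cases i <;> simp [d1, pairD])⟩

theorem d0_inv (x : Fˣ) : d0 x⁻¹ = (d0 x)⁻¹ := Subtype.ext (funext fun i => by
  fin_cases i <;> simp [d0, pairD, Pi.mulSingle_apply])

theorem d1_inv (x : Fˣ) : d1 x⁻¹ = (d1 x)⁻¹ := Subtype.ext (funext fun i => by
  fin_cases i <;> simp [d1, pairD, Pi.mulSingle_apply])

/-- the group in dimension two -/
theorem two_cases (C : UCtx F 2) (X : ↥(Cfsg.SU 2 F 2)) :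
    ∃ v : ↥(Diag F 2), X = dg C v ∨ X = ps C (swap (0 : Fin 2) 1) * dg C v := by
  obtain ⟨p, r, h, rfl⟩ := su2_eq (C := C) X
  by_cases hr : r = 0
  · obtain ⟨v, hv⟩ : su2 C p r h ∈ Tor C 2 := mem_tor.2 fun i => by
      fin_cases i
      · exact ⟨p, by simpa [hr] using su2_col0 (C := C) (h := h)⟩
      · exact ⟨C.bar p, by simpa [hr] using su2_col1 (C := C) (h := h)⟩
    exact ⟨v, Or.inl hv.symm⟩
  · have hp : p = 0 := by
      by_contra hp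
      rw [SixClosed.norm_one (fixed C) hp, SixClosed.norm_one (fixed C) hr] at h
      exact one_ne_zero (show (1 : F) = 0 by linear_combination h)
    obtain ⟨v, hv⟩ : ps C (swap (0 : Fin 2) 1) * su2 C p r h ∈ Tor C 2 := mem_tor.2 fun i => by
      fin_cases i
      · refine ⟨r, ?_⟩
        show (ps C (swap (0 : Fin 2) 1) * su2 C p r h).1.1 *ᵥ sv (0 : Fin 2) = _
        rw [suMat_mulVec_mul, su2_col0, hp]
        simp [Matrix.mulVec_smul, ps_sv]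
      · refine ⟨-C.bar r, ?_⟩
        show (ps C (swap (0 : Fin 2) 1) * su2 C p r h).1.1 *ᵥ sv (1 : Fin 2) = _
        rw [suMat_mulVec_mul, su2_col1, hp]
        simp [Matrix.mulVec_smul, ps_sv, Matrix.mulVec_neg]
    exact ⟨v, Or.inr (by rw [hv, ← mul_assoc, ← map_mul, Equiv.swap_mul_self, map_one, one_mul])⟩

theorem diag_two (v : ↥(Diag F 2)) : v.1 1 = (v.1 0)⁻¹ := by
  have h : ∏ i, v.1 i = 1 := v.2
  rw [Fin.prod_univ_two] at h
  exact eq_inv_of_mul_eq_one_right h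

theorem swap_sq (v : ↥(Diag F 2)) :
    ps C (swap (0 : Fin 2) 1) * dg C v * (ps C (swap (0 : Fin 2) 1) * dg C v) = 1 := by
  have h := ps_dg (C := C) (swap (0 : Fin 2) 1) v
  rw [show (ps C (swap (0 : Fin 2) 1))⁻¹ = ps C (swap (0 : Fin 2) 1) by rw [← map_inv, swap_inv]] at h
  rw [show ps C (swap (0 : Fin 2) 1) * dg C v * (ps C (swap (0 : Fin 2) 1) * dg C v) =
    ps C (swap (0 : Fin 2) 1) * dg C v * ps C (swap (0 : Fin 2) 1) * dg C v by group, h, ← map_mul]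
  refine (congrArg (dg C) (Subtype.ext (funext fun i => ?_))).trans (map_one _)
  show v.1 ((swap (0 : Fin 2) 1)⁻¹ i) * v.1 i = 1
  fin_cases i <;> simp [diag_two v]

theorem e0_diag (C : UCtx F 2) (v : ↥(Diag F 2)) : e0 C (dg C v) = dg C (d0 (v.1 0)) := by
  refine ext_sv fun j => ?_
  rw [dg_sv]
  obtain ⟨a, b, c⟩ := d0_val (v.1 0)
  fin_cases j
  · show (e0 C (dg C v)).1.1 *ᵥ sv (win (n := 3) 2 0 (by norm_num) 0) = ((d0 (v.1 0)).1 0 : F) • sv 0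
    rw [emb_sv, dg_sv, Matrix.mulVec_smul, inc_mulVec_sv, a]; rfl
  · show (e0 C (dg C v)).1.1 *ᵥ sv (win (n := 3) 2 0 (by norm_num) 1) = ((d0 (v.1 0)).1 1 : F) • sv 1
    rw [emb_sv, dg_sv, Matrix.mulVec_smul, inc_mulVec_sv, diag_two, b]; rfl
  · show (e0 C (dg C v)).1.1 *ᵥ sv 2 = ((d0 (v.1 0)).1 2 : F) • sv 2
    rw [mem_e0.1 ⟨_, rfl⟩, c, Units.val_one, one_smul]

theorem e1_diag (C : UCtx F 2) (v : ↥(Diag F 2)) : e1 C (dg C v) = dg C (d1 (v.1 0)) := by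
  refine ext_sv fun j => ?_
  rw [dg_sv]
  obtain ⟨a, b, c⟩ := d1_val (v.1 0)
  fin_cases j
  · show (e1 C (dg C v)).1.1 *ᵥ sv 0 = ((d1 (v.1 0)).1 0 : F) • sv 0
    rw [mem_e1.1 ⟨_, rfl⟩, a, Units.val_one, one_smul]
  · show (e1 C (dg C v)).1.1 *ᵥ sv (win (n := 3) 2 1 (by norm_num) 0) = ((d1 (v.1 0)).1 1 : F) • sv 1
    rw [emb_sv, dg_sv, Matrix.mulVec_smul, inc_mulVec_sv, b]; rfl
  · show (e1 C (dg C v)).1.1 *ᵥ sv (win (n := 3) 2 1 (by norm_num) 1) = ((d1 (v.1 0)).1 2 : F) • sv 2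
    rw [emb_sv, dg_sv, Matrix.mulVec_smul, inc_mulVec_sv, diag_two, c]; rfl

theorem e0_swap (C : UCtx F 2) : e0 C (ps C (swap (0 : Fin 2) 1)) = ps C (swap (0 : Fin 3) 1) := by
  refine ext_sv fun j => ?_
  rw [ps_sv]
  fin_cases j
  · show (e0 C _).1.1 *ᵥ sv (win (n := 3) 2 0 (by norm_num) 0) = sv (1 : Fin 3)
    rw [emb_sv, ps_sv, inc_mulVec_sv]; rfl
  · show (e0 C _).1.1 *ᵥ sv (win (n := 3) 2 0 (by norm_num) 1) = sv (0 : Fin 3)
    rw [emb_sv, ps_sv, inc_mulVec_sv]; rfl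
  · show (e0 C _).1.1 *ᵥ sv 2 = sv (2 : Fin 3)
    rw [mem_e0.1 ⟨_, rfl⟩]

theorem e1_swap (C : UCtx F 2) : e1 C (ps C (swap (0 : Fin 2) 1)) = ps C (swap (1 : Fin 3) 2) := by
  refine ext_sv fun j => ?_
  rw [ps_sv]
  fin_cases j
  · show (e1 C _).1.1 *ᵥ sv 0 = sv (0 : Fin 3)
    rw [mem_e1.1 ⟨_, rfl⟩]
  · show (e1 C _).1.1 *ᵥ sv (win (n := 3) 2 1 (by norm_num) 0) = sv (2 : Fin 3)
    rw [emb_sv, ps_sv, inc_mulVec_sv]; rfl
  · show (e1 C _).1.1 *ᵥ sv (win (n := 3) 2 1 (by norm_num) 1) = sv (1 : Fin 3)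
    rw [emb_sv, ps_sv, inc_mulVec_sv]; rfl

variable {G : Type*} [Group G] {A B : Subgroup G} {φ : ↥(Cfsg.SU 3 F 2) →* G}

theorem _root_.CfsgLib.Phan.Piece.three_left (P : Piece C φ A B) {t : G} (ht : t ∈ A) (h3 : t ^ 3 = 1) (h1 : t ≠ 1) :
    ∃ x : Fˣ, x ≠ 1 ∧ φ (dg C (d0 x)) = t := by
  rw [← P.left] at ht
  obtain ⟨_, ⟨X, rfl⟩, rfl⟩ := ht
  have hX3 : X ^ 3 = 1 := P.inj_left (by rw [map_one, map_pow]; exact h3)
  obtain ⟨v, rfl | rfl⟩ := two_cases C X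
  · refine ⟨v.1 0, fun e => h1 ?_, by rw [← e0_diag]⟩
    rw [e0_diag, d0_eq_one.2 e, map_one, map_one]
  · exfalso
    rw [pow_three, swap_sq, mul_one] at hX3
    exact h1 (by rw [hX3, map_one, map_one])

theorem _root_.CfsgLib.Phan.Piece.three_right (P : Piece C φ A B) {t : G} (ht : t ∈ B) (h3 : t ^ 3 = 1) (h1 : t ≠ 1) :
    ∃ x : Fˣ, x ≠ 1 ∧ φ (dg C (d1 x)) = t := by
  rw [← P.right] at ht
  obtain ⟨_, ⟨X, rfl⟩, rfl⟩ := ht
  have hX3 : X ^ 3 = 1 := P.inj_right (by rw [map_one, map_pow]; exact h3)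
  obtain ⟨v, rfl | rfl⟩ := two_cases C X
  · refine ⟨v.1 0, fun e => h1 ?_, by rw [← e1_diag]⟩
    rw [e1_diag, d1_eq_one.2 e, map_one, map_one]
  · exfalso
    rw [pow_three, swap_sq, mul_one] at hX3
    exact h1 (by rw [hX3, map_one, map_one])

theorem _root_.CfsgLib.Phan.Piece.invol_left (P : Piece C φ A B) {s : G} (hs : s ∈ A) (h2 : s * s = 1) (h1 : s ≠ 1) :
    ∃ x : Fˣ, φ (ps C (swap (0 : Fin 3) 1) * dg C (d0 x)) = s := by
  rw [← P.left] at hs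
  obtain ⟨_, ⟨X, rfl⟩, rfl⟩ := hs
  have hX2 : X * X = 1 := P.inj_left (by rw [map_one, map_mul]; exact h2)
  obtain ⟨v, rfl | rfl⟩ := two_cases C X
  · exfalso
    rw [← map_mul, ← map_one (dg C)] at hX2
    exact h1 (by rw [diag_sq C (dg_injective hX2), map_one, map_one, map_one])
  · exact ⟨v.1 0, by rw [map_mul (e0 C), e0_swap, e0_diag]⟩

theorem _root_.CfsgLib.Phan.Piece.invol_right (P : Piece C φ A B) {s : G} (hs : s ∈ B) (h2 : s * s = 1) (h1 : s ≠ 1) :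
    ∃ x : Fˣ, φ (ps C (swap (1 : Fin 3) 2) * dg C (d1 x)) = s := by
  rw [← P.right] at hs
  obtain ⟨_, ⟨X, rfl⟩, rfl⟩ := hs
  have hX2 : X * X = 1 := P.inj_right (by rw [map_one, map_mul]; exact h2)
  obtain ⟨v, rfl | rfl⟩ := two_cases C X
  · exfalso
    rw [← map_mul, ← map_one (dg C)] at hX2
    exact h1 (by rw [diag_sq C (dg_injective hX2), map_one, map_one, map_one])
  · exact ⟨v.1 0, by rw [map_mul (e1 C), e1_swap, e1_diag]⟩

/-- conjugation of diagonal elements by the involutions of a piece -/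
theorem invol_conj (σ : Perm (Fin 3)) (hσ : σ * σ = 1) (v w : ↥(Diag F 3)) :
    (ps C σ * dg C w) * dg C v * (ps C σ * dg C w)⁻¹ = dg C (perD σ v) := by
  rw [show ps C σ * dg C w * dg C v * (ps C σ * dg C w)⁻¹ = ps C σ * (dg C w * dg C v * (dg C w)⁻¹) * (ps C σ)⁻¹ by
    group, ← map_mul, ← map_inv (dg C), ← map_mul, mul_inv_cancel_comm, ps_dg, inv_eq_of_mul_eq_one_right hσ]

theorem central_fix {v : ↥(Diag F 3)} (h : dg C v ∈ Subgroup.center ↥(Cfsg.SU 3 F 2)) (σ : Perm (Fin 3))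
    (i : Fin 3) : v.1 (σ i) = v.1 i := by
  have e := congrArg (fun X : ↥(Cfsg.SU 3 F 2) => X.1.1 *ᵥ sv i) (Subgroup.mem_center_iff.1 h (ps C σ))
  simp only [suMat_mulVec_mul, dg_sv, ps_sv, Matrix.mulVec_smul] at e
  exact Units.ext (sv_smul_eq (Units.ne_zero _) e).2.symm

theorem gen_diag (hF : Fintype.card F = 4) {x y : Fˣ} (hx : x ≠ 1) (hy : y ≠ 1) (v : ↥(Diag F 3)) :
    ∃ k l : ℕ, v = d0 x ^ k * d1 y ^ l := by
  obtain ⟨k, hk⟩ := eq_pow_of_ne_one hF hx (v.1 0)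
  obtain ⟨l, hl⟩ := eq_pow_of_ne_one hF hy (v.1 1 * x ^ k)
  refine ⟨k, l, Subtype.ext (funext fun i => ?_)⟩
  have h : ∏ i, v.1 i = 1 := v.2
  rw [Fin.prod_univ_three] at h
  obtain ⟨a0, a1, a2⟩ := d0_val x
  obtain ⟨b0, b1, b2⟩ := d1_val y
  fin_cases i <;> simp [a0, a1, a2, b0, b1, b2, hk]
  · rw [← hl]; simp [mul_comm]
  · rw [← hl, eq_inv_of_mul_eq_one_right h, hk]; simp [mul_comm]

end CfsgLib.Phan.Two
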