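import Cfsg.Agent.Lib.Phan.Two.Base
import Cfsg.Agent.Lib.Lie.BoundedPres.SU.TwoAux

/-!
# Permutations of coordinates: adjacent transpositions and conjugation of embedded blocks
-/

set_option autoImplicit false
set_option linter.all false

namespace CfsgLib.Phan.Two

open Matrix Equiv CfsgLib.SU CfsgLib.Lie.BoundedPres CfsgLib.Lie.BoundedPres.SUBase
open CfsgLib.Lie.BoundedPres.SUGraph

universe u

variable {F : Type u} [Field F] [Fintype F] {m N : ℕ} {C : UCtx F 2}

/-- the point `k` -/
abbrev pt (k : ℕ) (h : k < N) : Fin N := ⟨k, h⟩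

theorem via_swap {α β : Type*} [DecidableEq α] [DecidableEq β] (e : α ↪ β) (a b : α) :
    Perm.viaEmbedding (swap a b) e = swap (e a) (e b) :=
  viaEmb_ext e _ _ (fun x => e.injective.swap_apply a b x) fun x hx =>
    swap_apply_of_ne_of_ne (hx a).symm (hx b).symm

/-- permutations fixing the first `k` points are products of the later adjacent transpositions -/
theorem high_mem (k : ℕ) (K : Subgroup (Perm (Fin N)))
    (hK : ∀ j, k ≤ j → ∀ h : j + 1 < N, swap (pt j (by omega)) (pt (j + 1) h) ∈ K)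
    (σ : Perm (Fin N)) (hσ : ∀ i : Fin N, i.val < k → σ i = i) : σ ∈ K := by
  classical
  rcases Nat.lt_or_ge k N with hk | hk
  swap
  · rw [show σ = 1 from Perm.ext fun i => hσ i (by omega)]
    exact one_mem _
  obtain ⟨m, hm⟩ : ∃ m, N = k + (m + 1) := ⟨N - k - 1, by omega⟩
  let e : Fin (m + 1) ↪ Fin N := ⟨fun i => pt (k + i.val) (by omega), fun a b h => by
    simpa [Fin.ext_iff] using h⟩
  have hlow : ∀ i : Fin (m + 1), k ≤ (σ (e i)).val := fun i => by
    by_contra h
    have h1 := σ.injective (hσ _ (not_le.1 h))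
    rw [h1] at h
    exact h (Nat.le_add_right _ _)
  let τ : Perm (Fin (m + 1)) := Equiv.ofBijective (fun i => ⟨(σ (e i)).val - k, by have := (σ (e i)).isLt; omega⟩)
    (Finite.injective_iff_bijective.1 fun a b h => by
      have h' : (σ (e a)).val - k = (σ (e b)).val - k := congrArg Fin.val h
      have := hlow a; have := hlow b
      exact e.injective (σ.injective (Fin.ext (by omega))))
  have hτ : Perm.viaEmbedding τ e = σ := by
    refine viaEmb_ext e _ _ (fun i => Fin.ext ?_) fun i hi => hσ i ?_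
    · have := hlow i
      show (σ (e i)).val = k + ((σ (e i)).val - k)
      omega
    · by_contra h
      exact hi ⟨i.val - k, by omega⟩ (Fin.ext (by show k + (i.val - k) = i.val; omega))
  have hle : (⊤ : Subgroup (Perm (Fin (m + 1)))) ≤ K.comap (Perm.viaEmbeddingHom e) := by
    intro x _
    have : (⊤ : Submonoid (Perm (Fin (m + 1)))) ≤ (K.comap (Perm.viaEmbeddingHom e)).toSubmonoid := by
      rw [← Equiv.Perm.mclosure_swap_castSucc_succ, Submonoid.closure_le]
      rintro _ ⟨i, rfl⟩
      show Perm.viaEmbeddingHom e _ ∈ K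
      rw [Perm.viaEmbeddingHom_apply, via_swap]
      exact hK (k + i.val) (by omega) (by omega)
    exact this trivial
  exact hτ ▸ (hle (Subgroup.mem_top τ) : Perm.viaEmbeddingHom e τ ∈ K)

/-- conjugation of an embedded block by a permutation -/
theorem ps_conj_emb {f : Fin m → Fin N} (hf : Function.Injective f) (σ : Perm (Fin N)) (A : ↥(Cfsg.SU m F 2)) :
    ps C σ * emb C f hf A * (ps C σ)⁻¹ = emb C (σ ∘ f) (σ.injective.comp hf) A := by
  refine mul_inv_eq_iff_eq_mul.2 (ext_sv fun l => ?_)
  rw [suMat_mulVec_mul, suMat_mulVec_mul, ps_sv]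
  by_cases hl : ∃ j, f j = l
  · obtain ⟨j, rfl⟩ := hl
    rw [emb_sv, show σ (f j) = (σ ∘ f) j from rfl, emb_sv, ← inc_comp, ← Matrix.mulVec_mulVec]
    rw [sum_sv (inc F f *ᵥ (A.1.1 *ᵥ sv j)), Matrix.mulVec_sum, Matrix.mulVec_sum]
    refine Finset.sum_congr rfl fun k _ => ?_
    rw [Matrix.mulVec_smul, Matrix.mulVec_smul, ps_sv, inc_mulVec_sv]
  · push Not at hl
    rw [emb_fix _ hl, ps_sv]
    exact (emb_fix _ fun j e => hl j (σ.injective e)).symm

end CfsgLib.Phan.Two
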