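import Cfsg.Agent.Lib.Phan.Two.Frame
import Mathlib.GroupTheory.NoncommCoprod

/-!
# The three involutions are transpositions of the frame
-/

set_option autoImplicit false
set_option linter.all false
set_option maxHeartbeats 1000000

namespace CfsgLib.Phan.Two

open Matrix Equiv CfsgLib.SU CfsgLib.Lie.BoundedPres.SUBase CfsgLib.Lie.BoundedPres.SUGraph

universe u

variable {F : Type u} [Field F] [Fintype F] {n : ℕ} {C : UCtx F 2}

theorem perD_mul (σ : Perm (Fin n)) (v w : ↥(Diag F n)) : perD σ (v * w) = perD σ v * perD σ w := rfl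

theorem perD_pow (σ : Perm (Fin n)) (v : ↥(Diag F n)) (k : ℕ) : perD σ (v ^ k) = perD σ v ^ k := by
  refine Subtype.ext (funext fun i => ?_)
  simp [perD]

theorem perD_inv (σ : Perm (Fin n)) (v : ↥(Diag F n)) : perD σ v⁻¹ = (perD σ v)⁻¹ := rfl

theorem diag_sq (C : UCtx F 2) {v : ↥(Diag F n)} (h : v * v = 1) : v = 1 :=
  Subtype.ext (funext fun i => sq_one (C := C) (congrArg (fun w : ↥(Diag F n) => w.1 i) h))

theorem diag_cube (C : UCtx F 2) (v : ↥(Diag F n)) : v ^ 3 = 1 :=
  Subtype.ext (funext fun i => by simpa using unit_cube C (v.1 i))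

/-- entries off the exchanged pair -/
theorem swap_inv_entries (C : UCtx F 2) {c d : Fin n} {w : ↥(Diag F n)} (h : perD (swap c d) w = w⁻¹)
    {k : Fin n} (hc : k ≠ c) (hd : k ≠ d) : w.1 k = 1 := by
  have e := congrArg (fun u : ↥(Diag F n) => u.1 k) h
  simp [perD, swap_apply_of_ne_of_ne hc hd] at e
  exact sq_one (C := C) (by nth_rw 1 [e]; exact inv_mul_cancel _)

theorem swaps_commute : ∀ a b c d : Fin 4, a ≠ b → c ≠ d → swap a b * swap c d = swap c d * swap a b →
    swap a b = swap c d ∨ (a ≠ c ∧ a ≠ d ∧ b ≠ c ∧ b ≠ d) := by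
  decide +kernel

set_option synthInstance.maxSize 1024 in
theorem swaps_path : ∀ a b e f : Fin 4, a ≠ b → e ≠ f → swap a b * swap e f = swap e f * swap a b →
    swap a b ≠ swap e f → ∀ c d : Fin 4, c ≠ d →
    swap a b * swap c d ≠ swap c d * swap a b → swap c d * swap e f ≠ swap e f * swap c d →
    ∃ p : Perm (Fin 4), swap a b = swap (p 0) (p 1) ∧ swap c d = swap (p 1) (p 2) ∧
      swap e f = swap (p 2) (p 3) := by
  decide +kernel

/-- neighbouring transpositions do not commute -/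
theorem not_comm (C : UCtx F 2) {a b c d : Fin 4} (hab : a ≠ b) (hcd : c ≠ d) {w : ↥(Diag F 4)}
    (h : perD (swap c d) w = w⁻¹) (h1 : perD (swap a b) w ≠ w) (h2 : perD (swap a b) w ≠ w⁻¹) :
    swap a b * swap c d ≠ swap c d * swap a b := by
  intro e
  rcases swaps_commute a b c d hab hcd e with e | ⟨hac, had, hbc, hbd⟩
  · exact h2 (e ▸ h)
  refine h1 (Subtype.ext (funext fun i => ?_))
  show w.1 (swap a b i) = w.1 i
  have ha := swap_inv_entries C h hac had
  have hb := swap_inv_entries C h hbc hbd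
  rw [swap_apply_def]
  split_ifs with h1 h2
  · rw [h1, ha, hb]
  · rw [h2, ha, hb]
  · rfl

/-- three transpositions along a path -/
theorem path_frame (hF : Fintype.card F = 4) (C : UCtx F 2) (v : Fin 3 → ↥(Diag F 4))
    (π : Fin 3 → Perm (Fin 4)) (hπ : ∀ j, π j * π j = 1) (hgen : Subgroup.closure (Set.range v) = ⊤)
    (hinv : ∀ j, perD (π j) (v j) = (v j)⁻¹)
    (f02 : perD (π 0) (v 2) = v 2) (f20 : perD (π 2) (v 0) = v 0) (hc : π 0 * π 2 = π 2 * π 0)
    (a01 : ∃ r, (r = v 0 ∨ r = (v 0)⁻¹) ∧ perD (π 0) (v 1) = r * v 1)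
    (a10 : ∃ r, (r = v 1 ∨ r = (v 1)⁻¹) ∧ perD (π 1) (v 0) = r * v 0)
    (a12 : ∃ r, (r = v 1 ∨ r = (v 1)⁻¹) ∧ perD (π 1) (v 2) = r * v 2)
    (a21 : ∃ r, (r = v 2 ∨ r = (v 2)⁻¹) ∧ perD (π 2) (v 1) = r * v 1) :
    ∃ p : Perm (Fin 4), ∀ j : Fin 3, π j = swap (p j.castSucc) (p j.succ) := by
  have hcardD : Nat.card ↥(Diag F 4) = 27 := by
    rw [Nat.card_congr (MonoidHom.ofInjective (dg_injective (C := C) (n := 4))).toEquiv, card_tor hF]
  have indep : ∀ x y : ↥(Diag F 4), (∀ j, v j ∈ Subgroup.zpowers x ⊔ Subgroup.zpowers y) → False := by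
    intro x y h
    have htop : (Subgroup.zpowers x ⊔ Subgroup.zpowers y : Subgroup ↥(Diag F 4)) = ⊤ :=
      top_unique (hgen ▸ (Subgroup.closure_le _).2 (by rintro _ ⟨j, rfl⟩; exact h j))
    let f := MonoidHom.noncommCoprod (Subgroup.zpowers x).subtype (Subgroup.zpowers y).subtype
      (fun a b => mul_comm _ _)
    have hf : Function.Surjective f := fun w => by
      obtain ⟨y', hy, z', hz, e⟩ := Subgroup.mem_sup.1 (htop ▸ Subgroup.mem_top w : w ∈ Subgroup.zpowers x ⊔ Subgroup.zpowers y)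
      exact ⟨(⟨y', hy⟩, ⟨z', hz⟩), e⟩
    haveI : Finite ↥(Diag F 4) := Nat.finite_of_card_ne_zero (by rw [hcardD]; norm_num)
    have h1 := Nat.card_le_card_of_surjective f hf
    have ho : ∀ z : ↥(Diag F 4), Nat.card (Subgroup.zpowers z) ≤ 3 := fun z => by
      rw [Nat.card_zpowers]; exact orderOf_le_of_pow_eq_one (by norm_num) (diag_cube C z)
    rw [Nat.card_prod, hcardD] at h1
    have := Nat.mul_le_mul (ho x) (ho y)
    omega
  have hmem1 : ∀ x y : ↥(Diag F 4), x ∈ Subgroup.zpowers x ⊔ Subgroup.zpowers y := fun x y =>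
    le_sup_left (a := Subgroup.zpowers x) (Subgroup.mem_zpowers x)
  have hmem2 : ∀ x y : ↥(Diag F 4), y ∈ Subgroup.zpowers x ⊔ Subgroup.zpowers y := fun x y =>
    le_sup_right (a := Subgroup.zpowers x) (Subgroup.mem_zpowers y)
  have pm2 : ∀ {r z : ↥(Diag F 4)} {K : Subgroup ↥(Diag F 4)}, (r = z ∨ r = z⁻¹) → z ∈ K → r ∈ K := by
    rintro r z K (rfl | rfl) h
    exacts [h, inv_mem h]
  have pmI : ∀ {r z : ↥(Diag F 4)} (σ : Perm (Fin 4)), (r = z ∨ r = z⁻¹) → perD σ z = z⁻¹ → perD σ r = r⁻¹ := by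
    rintro r z σ (rfl | rfl) h
    exacts [h, by rw [perD_inv, h]]
  -- the combination fixed by a transposition
  have fix : ∀ {σ : Perm (Fin 4)} {r w : ↥(Diag F 4)}, perD σ r = r⁻¹ → perD σ w = r * w →
      perD σ (w * (r * r)) = w * (r * r) := by
    intro σ r w hr hw
    rw [perD_mul, perD_mul, hr, hw]
    have h3 := diag_cube C r
    rw [pow_three] at h3
    rw [← inv_eq_of_mul_eq_one_right h3, mul_comm r w, mul_assoc, mul_inv_cancel_left]
  have hvne : ∀ j, perD (π j) (v j) ≠ v j := fun j h => by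
    have e := diag_sq C (show v j * v j = 1 by nth_rw 1 [← h]; rw [hinv, inv_mul_cancel])
    fin_cases j
    · exact indep (v 1) (v 2) fun l => by
        fin_cases l
        exacts [e ▸ one_mem _, hmem1 _ _, hmem2 _ _]
    · exact indep (v 0) (v 2) fun l => by
        fin_cases l
        exacts [hmem1 _ _, e ▸ one_mem _, hmem2 _ _]
    · exact indep (v 0) (v 1) fun l => by
        fin_cases l
        exacts [hmem1 _ _, hmem2 _ _, e ▸ one_mem _]
  obtain ⟨r0, hr0, e0⟩ := a01
  obtain ⟨r1, hr1, e1⟩ := a10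
  obtain ⟨r1', hr1', e1'⟩ := a12
  obtain ⟨r2, hr2, e2⟩ := a21
  obtain ⟨a, b, hab, h0⟩ : ∃ a b, a ≠ b ∧ π 0 = swap a b := by
    set x := v 1 * (r0 * r0) with hx
    refine swap_of_fixed hF (hπ 0) (hvne 0) (fix (pmI _ hr0 (hinv 0)) e0) f02 (fun h => ?_) (fun k h => ?_)
    · refine indep (v 0) (v 2) fun l => ?_
      fin_cases l
      · exact hmem1 _ _
      · have hr := pm2 hr0 (hmem1 (v 0) (v 2))
        have := mul_mem (show x ∈ Subgroup.zpowers (v 0) ⊔ Subgroup.zpowers (v 2) from by rw [hx, h]; exact one_mem _)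
          (inv_mem (mul_mem hr hr))
        rwa [hx, mul_inv_cancel_right] at this
      · exact hmem2 _ _
    · refine indep (v 0) x fun l => ?_
      fin_cases l
      · exact hmem1 _ _
      · have hr := pm2 hr0 (hmem1 (v 0) x)
        have := mul_mem (hmem2 (v 0) x) (inv_mem (mul_mem hr hr))
        rwa [show x * (r0 * r0)⁻¹ = v 1 by rw [hx, mul_inv_cancel_right]] at this
      · exact h ▸ pow_mem (hmem2 _ _) k
  obtain ⟨e, f, hef, h2⟩ : ∃ a b, a ≠ b ∧ π 2 = swap a b := by
    set x := v 1 * (r2 * r2) with hx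
    refine swap_of_fixed hF (hπ 2) (hvne 2) (fix (pmI _ hr2 (hinv 2)) e2) f20 (fun h => ?_) (fun k h => ?_)
    · refine indep (v 2) (v 0) fun l => ?_
      fin_cases l
      · exact hmem2 _ _
      · have hr := pm2 hr2 (hmem1 (v 2) (v 0))
        have := mul_mem (show x ∈ Subgroup.zpowers (v 2) ⊔ Subgroup.zpowers (v 0) from by rw [hx, h]; exact one_mem _)
          (inv_mem (mul_mem hr hr))
        rwa [hx, mul_inv_cancel_right] at this
      · exact hmem1 _ _
    · refine indep (v 2) x fun l => ?_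
      fin_cases l
      · exact h ▸ pow_mem (hmem2 _ _) k
      · have hr := pm2 hr2 (hmem1 (v 2) x)
        have := mul_mem (hmem2 (v 2) x) (inv_mem (mul_mem hr hr))
        rwa [show x * (r2 * r2)⁻¹ = v 1 by rw [hx, mul_inv_cancel_right]] at this
      · exact hmem1 _ _
  obtain ⟨c, d, hcd, h1⟩ : ∃ a b, a ≠ b ∧ π 1 = swap a b := by
    set x := v 0 * (r1 * r1) with hx
    set y := v 2 * (r1' * r1') with hy
    refine swap_of_fixed hF (hπ 1) (hvne 1) (fix (pmI _ hr1 (hinv 1)) e1) (fix (pmI _ hr1' (hinv 1)) e1')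
      (fun h => ?_) (fun k h => ?_)
    · refine indep (v 1) (v 2) fun l => ?_
      fin_cases l
      · have hr := pm2 hr1 (hmem1 (v 1) (v 2))
        have := mul_mem (show x ∈ Subgroup.zpowers (v 1) ⊔ Subgroup.zpowers (v 2) from by rw [hx, h]; exact one_mem _)
          (inv_mem (mul_mem hr hr))
        rwa [hx, mul_inv_cancel_right] at this
      · exact hmem1 _ _
      · exact hmem2 _ _
    · refine indep (v 1) x fun l => ?_
      fin_cases l
      · have hr := pm2 hr1 (hmem1 (v 1) x)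
        have := mul_mem (hmem2 (v 1) x) (inv_mem (mul_mem hr hr))
        rwa [show x * (r1 * r1)⁻¹ = v 0 by rw [hx, mul_inv_cancel_right]] at this
      · exact hmem1 _ _
      · have hr := pm2 hr1' (hmem1 (v 1) x)
        have := mul_mem (show y ∈ Subgroup.zpowers (v 1) ⊔ Subgroup.zpowers x from by rw [hy, h, ← hx]; exact pow_mem (hmem2 (v 1) x) k)
          (inv_mem (mul_mem hr hr))
        rwa [hy, mul_inv_cancel_right] at this
  have n01 : π 0 * π 1 ≠ π 1 * π 0 := by
    rw [h0, h1]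
    refine not_comm C hab hcd (h1 ▸ hinv 1) ?_ ?_
    · rw [← h0, e0]
      intro h
      have : r0 = 1 := mul_eq_right.1 h
      refine hvne 0 ?_
      rw [hinv 0]
      rcases hr0 with rfl | rfl
      · rw [this, inv_one]
      · rw [inv_eq_one.1 this, inv_one]
    · rw [← h0, e0]
      intro h
      refine indep (v 0) (v 2) fun l => ?_
      fin_cases l
      · exact hmem1 _ _
      · have hv : v 1 = r0 := by
          rw [eq_mul_inv_of_mul_eq h]
          conv_lhs => rw [← mul_one (v 1), ← inv_one, ← diag_cube C (v 1)]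
          simp [pow_three]
        exact hv ▸ pm2 hr0 (hmem1 _ _)
      · exact hmem2 _ _
  have n12 : π 1 * π 2 ≠ π 2 * π 1 := by
    rw [h2, h1]
    refine fun hh => not_comm C hef hcd (h1 ▸ hinv 1) ?_ ?_ hh.symm
    · rw [← h2, e2]
      intro h
      have : r2 = 1 := mul_eq_right.1 h
      refine hvne 2 ?_
      rw [hinv 2]
      rcases hr2 with rfl | rfl
      · rw [this, inv_one]
      · rw [inv_eq_one.1 this, inv_one]
    · rw [← h2, e2]
      intro h
      refine indep (v 0) (v 2) fun l => ?_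
      fin_cases l
      · exact hmem1 _ _
      · have hv : v 1 = r2 := by
          rw [eq_mul_inv_of_mul_eq h]
          conv_lhs => rw [← mul_one (v 1), ← inv_one, ← diag_cube C (v 1)]
          simp [pow_three]
        exact hv ▸ pm2 hr2 (hmem2 _ _)
      · exact hmem2 _ _
  rw [h0, h2] at hc
  rw [h0, h1] at n01
  rw [h1, h2] at n12
  have hne : swap a b ≠ swap e f := fun h => hvne 2 (by rw [h2, ← h, ← h0, f02])
  obtain ⟨p, p0, p1, p2⟩ := swaps_path a b e f hab hef hc hne c d hcd n01 n12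
  exact ⟨p, fun j => by fin_cases j <;> simp [h0, h1, h2, p0, p1, p2]⟩

end CfsgLib.Phan.Two
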