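import Cfsg.Agent.Lib.Phan.Two.Chain

/-!
# The standard identification of a window with `SU₄`
-/

set_option autoImplicit false
set_option linter.all false
set_option maxHeartbeats 1000000

namespace CfsgLib.Phan.Two

open Matrix Equiv CfsgLib.SU CfsgLib.Lie.BoundedPres.SUBase CfsgLib.Lie.BoundedPres.SUGraph

universe u

variable {F : Type u} [Field F] [Fintype F] {C : UCtx F 2} {G : Type*} [Group G] {n : ℕ}

theorem simple_four (hF : Fintype.card F = 4) : IsSimpleGroup ↥(Cfsg.SU 4 F 2) := by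
  obtain ⟨C⟩ := CfsgLib.Classical.uctx_exists (F := F) (q := 2) (by rw [hF]; norm_num)
  have hc := C.card_center_su (n := 4) (by rw [hF]; norm_num) (by norm_num)
  have hb : Subgroup.center ↥(Cfsg.SU 4 F 2) = ⊥ := Subgroup.card_eq_one.1 (hc.trans (by norm_num))
  haveI : IsSimpleGroup (Cfsg.PSU 4 F 2) :=
    CfsgLib.Classical.psu_isSimple (q := 2) (n := 4) (by rw [hF]; norm_num) (by norm_num) (by norm_num)
  let e : Cfsg.PSU 4 F 2 ≃* ↥(Cfsg.SU 4 F 2) :=
    (QuotientGroup.quotientMulEquivOfEq hb).trans QuotientGroup.quotientBot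
  haveI : Nontrivial ↥(Cfsg.SU 4 F 2) := e.toEquiv.symm.nontrivial
  exact IsSimpleGroup.isSimpleGroup_of_surjective e.toMonoidHom e.surjective

/-- the cyclic shift -/
def shift : Perm (Fin 4) := swap 0 1 * swap 1 2 * swap 2 3

theorem Chain.exists_window {U : ℕ → Subgroup G} {t s : ℕ → G} {φ : ℕ → ↥(Cfsg.SU 3 F 2) →* G}
    (H : Chain C n U t s φ) (hF : Fintype.card F = 4) {i : ℕ} (hi : i + 2 < n) :
    ∃ η : ↥(Cfsg.SU 4 F 2) →* G,
      η (ps C (swap 0 1)) = s i ∧ η (ps C (swap 1 2)) = s (i + 1) ∧ η (ps C (swap 2 3)) = s (i + 2) ∧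
      (fixFrom (F := F) (q := 2) (n := 4) 3).map η = (φ i).range ∧
      ((fixFrom (F := F) (q := 2) (n := 4) 3).map (MulAut.conj (ps C shift)).toMonoidHom).map η = (φ (i + 1)).range ∧
      η.range = (φ i).range ⊔ (φ (i + 1)).range := by
  classical
  obtain ⟨g, hg⟩ := H.window i hi
  obtain ⟨c01, a01, a10, -, t0m, t1m, s0m, s1m, -⟩ := Chain.piece_rel H hF (show i + 1 < n by omega)
  obtain ⟨c12, a12', a21', -, -, t2m, -, s2m, -⟩ := Chain.piece_rel H hF (show (i + 1) + 1 < n by omega)
  rw [show i + 1 + 1 = i + 2 from rfl] at a12' a21' t2m s2m c12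
  have hinjφ : ∀ j, j + 1 < n → Function.Injective (φ j) := fun j hj => Chain.inj H hF hj (by omega)
  haveI := simple_four (F := F) hF
  have hgi : Function.Injective g := by
    rcases IsSimpleGroup.eq_bot_or_eq_top_of_normal g.ker inferInstance with h | h
    · exact (MonoidHom.ker_eq_bot_iff g).1 h
    · exfalso
      have : t i ∈ g.range := hg ▸ Subgroup.mem_sup_left t0m
      obtain ⟨X, hX⟩ := this
      exact H.tne i (by omega) (hX ▸ MonoidHom.mem_ker.1 (h ▸ Subgroup.mem_top X))
  have m0 : ∀ {x}, x ∈ (φ i).range → x ∈ g.range := fun h => hg ▸ Subgroup.mem_sup_left h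
  have m1 : ∀ {x}, x ∈ (φ (i + 1)).range → x ∈ g.range := fun h => hg ▸ Subgroup.mem_sup_right h
  let T : Fin 3 → G := ![t i, t (i + 1), t (i + 2)]
  let S : Fin 3 → G := ![s i, s (i + 1), s (i + 2)]
  have hT : ∀ j, T j ∈ g.range := fun j => by fin_cases j; exacts [m0 t0m, m0 t1m, m1 t2m]
  have hS : ∀ j, S j ∈ g.range := fun j => by fin_cases j; exacts [m0 s0m, m0 s1m, m1 s2m]
  choose tW htW using hT
  choose sW hsW using hS
  have e : ∀ {X Y}, g X = g Y → X = Y := fun h => hgi h
  have pull : ∀ {j k l : Fin 3}, (∃ r, (r = T l ∨ r = (T l)⁻¹) ∧ S j * T k * S j = r * T k) →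
      ∃ r, (r = tW l ∨ r = (tW l)⁻¹) ∧ sW j * tW k * sW j = r * tW k := by
    rintro j k l ⟨r, rfl | rfl, h⟩
    · exact ⟨tW l, Or.inl rfl, e (by simp only [map_mul, htW, hsW]; exact h)⟩
    · exact ⟨(tW l)⁻¹, Or.inr rfl, e (by simp only [map_mul, map_inv, htW, hsW]; exact h)⟩
  obtain ⟨hcomm, hcard⟩ := Chain.torus H hF hi
  set A := Subgroup.closure (Set.range tW) with hA
  have hAmap : A.map g = Subgroup.closure (Set.range T) := by
    rw [hA, MonoidHom.map_closure, ← Set.range_comp]
    congr 2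
    funext j
    exact htW j
  obtain ⟨h, hh⟩ := exists_frame hF C tW sW A
    (by rw [Nat.card_congr (Subgroup.equivMapOfInjective A g hgi).toEquiv, hAmap]; exact hcard)
    (fun x hx y hy => e (by
      rw [map_mul, map_mul]
      exact hcomm _ (hAmap ▸ Subgroup.mem_map_of_mem g hx) _ (hAmap ▸ Subgroup.mem_map_of_mem g hy)))
    rfl
    (fun j => e (by
      rw [map_mul, map_one, hsW]
      fin_cases j
      exacts [H.ssq i (by omega), H.ssq (i + 1) (by omega), H.ssq (i + 2) hi]))
    (fun j => e (by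
      rw [map_mul, map_mul, map_inv, hsW, htW]
      fin_cases j
      exacts [H.sinv i (by omega), H.sinv (i + 1) (by omega), H.sinv (i + 2) hi]))
    (e (by
      rw [map_mul, map_mul, hsW, htW]
      show s i * t (i + 2) * s i = t (i + 2)
      rw [H.comm i (i + 2) le_rfl hi _ (H.smem i (by omega)) _ (H.tmem _ hi), mul_assoc, H.ssq i (by omega), mul_one]))
    (e (by
      rw [map_mul, map_mul, hsW, htW]
      show s (i + 2) * t i * s (i + 2) = t i
      rw [← H.comm i (i + 2) le_rfl hi _ (H.tmem i (by omega)) _ (H.smem _ hi), mul_assoc, H.ssq _ hi, mul_one]))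
    (e (by
      rw [map_mul, map_mul, hsW, hsW]
      exact H.comm i (i + 2) le_rfl hi _ (H.smem i (by omega)) _ (H.smem _ hi)))
    (pull a01) (pull a10) (pull a12') (pull a21')
  let η := g.comp (MulAut.conj h).toMonoidHom
  have hη : ∀ X, η X = g (h * X * h⁻¹) := fun X => rfl
  have hηi : Function.Injective η := hgi.comp (MulAut.conj h).injective
  have hηr : η.range = g.range := by
    rw [MonoidHom.range_comp, MonoidHom.range_eq_top.2 (MulAut.conj h).surjective, ← MonoidHom.range_eq_map]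
  have hps : ∀ j : Fin 3, η (ps C (swap j.castSucc j.succ)) = S j := fun j => by
    rw [hη, ← (hh j).1, show h * (h⁻¹ * sW j * h) * h⁻¹ = sW j by group, hsW]
  have hv : ∀ j, ∃ v : ↥(Diag F 4), η (dg C v) = T j ∧ perD (swap j.castSucc j.succ) v = v⁻¹ ∧ v ≠ 1 := by
    intro j
    obtain ⟨v, hv⟩ := (hh j).2
    have hT1 : η (dg C v) = T j := by rw [hη, hv, show h * (h⁻¹ * tW j * h) * h⁻¹ = tW j by group, htW]
    refine ⟨v, hT1, dg_injective (C := C) (hηi ?_), fun hv1 => ?_⟩
    · rw [show perD (swap j.castSucc j.succ) v = perD (swap j.castSucc j.succ)⁻¹ v by rw [swap_inv],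
        ← ps_dg, map_mul, map_mul, map_inv, map_inv, map_inv, hps, hT1]
      fin_cases j
      · show s i * t i * (s i)⁻¹ = _
        rw [Chain.sinv' H hF (show i < n by omega)]; exact H.sinv i (by omega)
      · show s (i + 1) * t (i + 1) * (s (i + 1))⁻¹ = _
        rw [Chain.sinv' H hF (show i + 1 < n by omega)]; exact H.sinv _ (by omega)
      · show s (i + 2) * t (i + 2) * (s (i + 2))⁻¹ = _
        rw [Chain.sinv' H hF hi]; exact H.sinv _ hi
    · rw [hv1, map_one, map_one] at hT1
      fin_cases j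
      exacts [H.tne i (by omega) hT1.symm, H.tne (i + 1) (by omega) hT1.symm, H.tne (i + 2) hi hT1.symm]
  -- pulling back a piece
  have piece : ∀ j, j + 1 < n → (φ j).range ≤ η.range → ∀ γ : Perm (Fin 4), ∀ v : ↥(Diag F 4),
      v ≠ 1 → v.1 (γ 2) = 1 → v.1 (γ 3) = 1 → η (dg C v) ∈ (φ j).range →
      η (ps C (swap (γ 0) (γ 1))) ∈ (φ j).range → η (ps C (swap (γ 1) (γ 2))) ∈ (φ j).range →
      (fixFrom (F := F) (q := 2) (n := 4) 3).map (η.comp (MulAut.conj (ps C γ)).toMonoidHom) = (φ j).range := by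
    intro j hj hle γ v hv1 hv2 hv3 hvm hs1 hs2
    let k := η.comp (MulAut.conj (ps C γ)).toMonoidHom
    have hk : ∀ X, k X = η (ps C γ * X * (ps C γ)⁻¹) := fun X => rfl
    have hki : Function.Injective k := hηi.comp (MulAut.conj (ps C γ)).injective
    have hkr : k.range = η.range := by
      rw [MonoidHom.range_comp, MonoidHom.range_eq_top.2 (MulAut.conj _).surjective, ← MonoidHom.range_eq_map]
    let a : ↥(Cfsg.SU 3 F 2) →* ↥(Cfsg.SU 4 F 2) := (MonoidHom.ofInjective hki).symm.toMonoidHom.comp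
      ((φ j).codRestrict k.range fun X => hkr ▸ hle ⟨X, rfl⟩)
    have hka : ∀ X, k (a X) = φ j X := fun X => congrArg Subtype.val
      ((MonoidHom.ofInjective hki).apply_symm_apply _)
    have mem : ∀ Y, k Y ∈ (φ j).range → Y ∈ a.range := fun Y ⟨X, hX⟩ => ⟨X, hki ((hka X).trans hX)⟩
    have hsw : ∀ p q, k (ps C (swap p q)) = η (ps C (swap (γ p) (γ q))) := fun p q => by
      rw [hk, ← map_mul, ← map_inv, ← map_mul, swap_apply_apply]
    have hr := range_eq_fix hF a (fun X Y hXY => hinjφ j hj (by rw [← hka, ← hka, hXY])) (perD γ v)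
      (fun hv' => hv1 (Subtype.ext (funext fun l => by
        have := congrArg (fun w : ↥(Diag F 4) => w.1 (γ⁻¹ l)) hv'
        simpa [perD] using this)))
      hv2 hv3
      (mem _ (by
        rw [hk, ps_dg]
        convert hvm using 3
        exact Subtype.ext (funext fun l => by simp [perD])))
      (mem _ (by rw [hsw]; exact hs1)) (mem _ (by rw [hsw]; exact hs2))
    show Subgroup.map k _ = _
    rw [← hr, ← MonoidHom.range_comp]
    exact congrArg MonoidHom.range (MonoidHom.ext hka)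
  refine ⟨η, hps 0, hps 1, hps 2, ?_, ?_, hηr.trans hg⟩
  · obtain ⟨v, hv0, hv', hv1⟩ := hv 0
    have := piece i (by omega) (fun x hx => hηr ▸ m0 hx) 1 v hv1
      (swap_inv_entries C hv' (by decide) (by decide)) (swap_inv_entries C hv' (by decide) (by decide))
      (hv0 ▸ t0m) (by rw [show η (ps C (swap ((1 : Perm (Fin 4)) 0) ((1 : Perm (Fin 4)) 1))) = S 0 from hps 0]; exact s0m)
      (by rw [show η (ps C (swap ((1 : Perm (Fin 4)) 1) ((1 : Perm (Fin 4)) 2))) = S 1 from hps 1]; exact s1m)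
    rwa [show η.comp (MulAut.conj (ps C (1 : Perm (Fin 4)))).toMonoidHom = η from
      MonoidHom.ext fun X => by simp] at this
  · obtain ⟨v, hv0, hv', hv1⟩ := hv 1
    rw [Subgroup.map_map]
    exact piece (i + 1) (by omega) (fun x hx => hηr ▸ m1 hx) shift v hv1
      (swap_inv_entries C hv' (by decide) (by decide)) (swap_inv_entries C hv' (by decide) (by decide))
      (hv0 ▸ (Chain.piece_rel H hF (show i + 1 + 1 < n by omega)).2.2.2.2.1)
      (by rw [show swap (shift 0) (shift 1) = swap (1 : Fin 4) 2 by decide,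
        show η (ps C (swap (1 : Fin 4) 2)) = S 1 from hps 1]
          exact (Chain.piece_rel H hF (show i + 1 + 1 < n by omega)).2.2.2.2.2.2.1)
      (by rw [show swap (shift 1) (shift 2) = swap (2 : Fin 4) 3 by decide,
        show η (ps C (swap (2 : Fin 4) 3)) = S 2 from hps 2]
          exact s2m)

end CfsgLib.Phan.Two
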